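import Mathlib

/-!
# Counting fixed points
-/

set_option autoImplicit false

namespace Cfsg.Agent.J3.Fix

theorem end_pow {α : Type*} (g : Function.End α) (f : α → α) (hg : g = f) :
    ∀ (n : ℕ) (x : α), (g ^ n) x = f^[n] x
  | 0, x => rfl
  | n + 1, x => by
    rw [pow_succ]
    show (g ^ n) (g x) = f^[n] (f x)
    rw [end_pow g f hg n, hg]

/-- a map with `f^p = id` on a finite set: `|α| ≡ |Fix f| mod p` -/
theorem card_modEq {α : Type*} [Finite α] {p : ℕ} (hp : p.Prime) (f : α → α)
    (hf : f^[p] = id) : Nat.card α ≡ Nat.card {x // f x = x} [MOD p] := by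
  classical
  have := Fintype.ofFinite α
  have hfact : Fact p.Prime := ⟨hp⟩
  have h := Equiv.Perm.card_fixedPoints_modEq (α := α) (f := (f : Function.End α)) (p := p) (n := 1)
    (by
      rw [pow_one]
      funext x
      rw [end_pow (f : Function.End α) f rfl p x, hf]
      rfl)
  have e : Nat.card {x // f x = x} = Fintype.card (Function.fixedPoints f) := by
    rw [← Nat.card_eq_fintype_card]
    rfl
  rw [Nat.card_eq_fintype_card, e]
  exact h

/-- an element of order `p` normalising `Q` : `|Q| ≡ |C_Q(y)| mod p`, as numbers of elements -/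
theorem card_subgroup_modEq {G : Type*} [Group G] [Finite G] {p : ℕ} (hp : p.Prime)
    (Q : Subgroup G) (y : G) (hy : y ^ p = 1) (hn : ∀ q ∈ Q, y * q * y⁻¹ ∈ Q) :
    Nat.card Q ≡ Nat.card (Q ⊓ Subgroup.centralizer {y} : Subgroup G) [MOD p] := by
  let f : Q → Q := fun q => ⟨y * q * y⁻¹, hn q q.2⟩
  have hf : ∀ (n : ℕ) (q : Q), ((f^[n] q : Q) : G) = y ^ n * q * (y ^ n)⁻¹ := by
    intro n
    induction n with
    | zero => intro q; simp
    | succ n ih =>
      intro q
      rw [Function.iterate_succ_apply', show ((f (f^[n] q) : Q) : G) = y * (f^[n] q : Q) * y⁻¹ from rfl,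
        ih, pow_succ']
      group
  have h := card_modEq hp f (by
    funext q
    apply Subtype.ext
    rw [hf, hy]; simp)
  have e : Nat.card {x // f x = x} =
      Nat.card (Q ⊓ Subgroup.centralizer {y} : Subgroup G) := by
    refine Nat.card_congr ⟨fun x => ⟨x.1.1, x.1.2, ?_⟩,
      fun x => ⟨⟨x.1, x.2.1⟩, ?_⟩, fun x => rfl, fun x => rfl⟩
    · have h1 : y * x.1.1 * y⁻¹ = x.1.1 := congrArg Subtype.val x.2
      show x.1.1 ∈ Subgroup.centralizer {y}
      rw [Subgroup.mem_centralizer_singleton_iff]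
      have := congrArg (· * y) h1
      simpa using this.symm
    · apply Subtype.ext
      show y * x.1 * y⁻¹ = x.1
      have h1 := x.2.2
      have h2 := Subgroup.mem_centralizer_singleton_iff.mp h1
      rw [← h2]; group
  rw [e] at h
  exact h

/-- elements of order `p`, where `p` divides the group order exactly once, are conjugate to
powers of each other -/
theorem exists_conj_pow {G : Type*} [Group G] [Finite G] {p : ℕ} (hp : p.Prime)
    (h2 : ¬ p ^ 2 ∣ Nat.card G) {x y : G} (hx : orderOf x = p) (hy : orderOf y = p) :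
    ∃ (g : G) (k : ℕ), y = g * x ^ k * g⁻¹ := by
  have hfact : Fact p.Prime := ⟨hp⟩
  have hP : ∀ z : G, orderOf z = p → ∃ P : Sylow p G, (P : Subgroup G) = Subgroup.zpowers z := by
    intro z hz
    have hcard : Nat.card (Subgroup.zpowers z) = p := by rw [Nat.card_zpowers, hz]
    have hpg : IsPGroup p (Subgroup.zpowers z) := IsPGroup.of_card (n := 1) (by rw [hcard, pow_one])
    obtain ⟨P, hP⟩ := hpg.exists_le_sylow
    refine ⟨P, ?_⟩
    obtain ⟨n, hn⟩ := (IsPGroup.iff_card.mp P.2)
    have hle : n ≤ 1 := by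
      by_contra h
      apply h2
      have h3 : p ^ 2 ∣ p ^ n := pow_dvd_pow p (by omega)
      exact h3.trans (hn ▸ Subgroup.card_subgroup_dvd_card _)
    have hle2 : Nat.card P ≤ Nat.card (Subgroup.zpowers z) := by
      rw [hcard, hn]
      calc p ^ n ≤ p ^ 1 := Nat.pow_le_pow_right hp.pos hle
        _ = p := pow_one p
    exact (Subgroup.eq_of_le_of_card_ge hP hle2).symm
  obtain ⟨P, hPx⟩ := hP x hx
  obtain ⟨Q, hQy⟩ := hP y hy
  obtain ⟨g, hg⟩ := MulAction.exists_smul_eq G P Q
  have hmem : y ∈ (Q : Subgroup G) := by rw [hQy]; exact Subgroup.mem_zpowers y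
  rw [← hg, Sylow.coe_subgroup_smul, Subgroup.mem_pointwise_smul_iff_inv_smul_mem] at hmem
  change (MulAut.conj g)⁻¹ • y ∈ (P : Subgroup G) at hmem
  rw [hPx, ← mem_powers_iff_mem_zpowers] at hmem
  obtain ⟨k, hk⟩ := hmem
  refine ⟨g, k, ?_⟩
  have hk' : x ^ k = g⁻¹ * y * g := by
    have h3 : x ^ k = (MulAut.conj g)⁻¹ • y := hk
    rw [h3, ← map_inv]
    show g⁻¹ * y * g⁻¹⁻¹ = _
    rw [inv_inv]
  rw [hk']; group

end Cfsg.Agent.J3.Fix
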