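import Cfsg.Agent.J3.Elts
import Cfsg.Agent.J3.Fix

/-!
# The scalars of `3·J₃` and elements of order 19
-/

set_option autoImplicit false

namespace Cfsg.Agent.J3.Nineteen

open Cfsg.Spor Cfsg.Agent.J3.Core Cfsg.Agent.J3.Tab Cfsg.Agent.J3.Mono Cfsg.Agent.J3.Elts
open Cfsg.Agent.Lib.BitSet Matrix

/-! ### sums of tables -/

def xorL (T U : List ℕ) : List ℕ := List.zipWith Nat.xor T U

theorem appT_xorL : ∀ (T U : List ℕ), T.length = U.length → ∀ n : ℕ,
    appT (xorL T U) n = appT T n ^^^ appT U n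
  | [], [], _, n => by
    show (0 : ℕ) = 0 ^^^ 0
    simp
  | t :: T, u :: U, h, n => by
    have ih := appT_xorL T U (by simpa using h) (n >>> 1)
    show appT ((t ^^^ u) :: xorL T U) n = _
    rw [appT_cons, appT_cons, appT_cons, ih, xor_four]
    congr 1
    have ha : n &&& 1 = 0 ∨ n &&& 1 = 1 := by
      rw [Nat.and_one_is_mod]; omega
    rcases ha with ha | ha
    · rw [ha]; simp
    · rw [ha]; simp
  | [], _ :: _, h, _ => by simp at h
  | _ :: _, [], h, _ => by simp at h

theorem xorL_lt : ∀ {T U : List ℕ}, (∀ t ∈ T, t < 2 ^ 18) → (∀ t ∈ U, t < 2 ^ 18) →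
    ∀ t ∈ xorL T U, t < 2 ^ 18
  | [], _, _, _, t, ht => by simp [xorL] at ht
  | _ :: _, [], _, _, t, ht => by simp [xorL] at ht
  | a :: T, b :: U, hT, hU, t, ht => by
    have ht' : t ∈ (a ^^^ b) :: xorL T U := ht
    rcases List.mem_cons.mp ht' with rfl | ht'
    · exact Nat.xor_lt_two_pow (hT a List.mem_cons_self) (hU b List.mem_cons_self)
    · exact xorL_lt (fun t h => hT t (List.mem_cons_of_mem _ h))
        (fun t h => hU t (List.mem_cons_of_mem _ h)) t ht'

/-- table of `∑_{i<n} x^i` -/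
def sumT (T : List ℕ) : ℕ → List ℕ
  | 0 => List.replicate 18 0
  | n + 1 => xorL (compT T (sumT T n)) (tS 0)

theorem tS_length : (tS 0).length = 18 := by decide

theorem sumT_length (T : List ℕ) : ∀ n, (sumT T n).length = 18
  | 0 => by simp [sumT]
  | n + 1 => by
    have ih := sumT_length T n
    show (List.zipWith Nat.xor (compT T (sumT T n)) (tS 0)).length = 18
    rw [List.length_zipWith, tS_length]
    show min ((sumT T n).map (appT T)).length 18 = 18
    rw [List.length_map, ih]
    rfl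

section
variable {F : Type*} [Field F] {ω : F}

theorem rep_one (H : Good ω) : Rep ω (tS 0) (1 : Matrix F9 F9 F) := by
  have h1 := repS H 0 (by norm_num)
  rw [pow_zero, one_smul] at h1
  exact h1

theorem rep_add (H : Good ω) {T U : List ℕ} {g h : Matrix F9 F9 F} (hg : Rep ω T g)
    (hh : Rep ω U h) (hl : T.length = U.length) : Rep ω (xorL T U) (g + h) := by
  refine ⟨xorL_lt hg.1 hh.1, ?_⟩
  intro n hn
  rw [Matrix.add_mulVec, hg.2 n hn, hh.2 n hn, appT_xorL T U hl, dec_xor H]

theorem rep_zero : Rep ω (List.replicate 18 0) (0 : Matrix F9 F9 F) := by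
  refine ⟨by intro t ht; rw [List.eq_of_mem_replicate ht]; norm_num, ?_⟩
  intro n hn
  rw [Matrix.zero_mulVec]
  have : ∀ (k m : ℕ), appT (List.replicate k 0) m = 0 := by
    intro k
    induction k with
    | zero => intro m; rfl
    | succ k ih => intro m; rw [List.replicate_succ, appT_cons, ih]; simp
  rw [this, dec_zero]

theorem rep_sumT (H : Good ω) {T : List ℕ} {g : Matrix F9 F9 F} (hg : Rep ω T g) :
    ∀ n, Rep ω (sumT T n) (∑ i ∈ Finset.range n, g ^ i)
  | 0 => by rw [Finset.range_zero, Finset.sum_empty]; exact rep_zero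
  | n + 1 => by
    have ih := rep_sumT H hg n
    rw [Finset.sum_range_succ']
    have e : ∑ i ∈ Finset.range n, g ^ (i + 1) = g * ∑ i ∈ Finset.range n, g ^ i := by
      rw [Finset.mul_sum]
      exact Finset.sum_congr rfl fun i _ => pow_succ' g i
    rw [e, pow_zero]
    refine rep_add H (hg.mul ih) (rep_one H) ?_
    rw [tS_length]
    show ((sumT T n).map (appT T)).length = 18
    rw [List.length_map, sumT_length]

/-- the test for elements of order 19 -/
def chk19 (T : List ℕ) : Bool := beqL (cols (sumT T 19)) (List.replicate 9 0)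

theorem sum_eq_zero (H : Good ω) {T : List ℕ} {g : Matrix F9 F9 F} (hg : Rep ω T g)
    (hc : chk19 T = true) : ∑ i ∈ Finset.range 19, g ^ i = 0 :=
  Rep.ext (rep_sumT H hg 19) rep_zero (beqL_eq hc)

theorem pow_fix {g : Matrix F9 F9 F} {v : F9 → F} (hv : g *ᵥ v = v) :
    ∀ i : ℕ, g ^ i *ᵥ v = v
  | 0 => by rw [pow_zero, Matrix.one_mulVec]
  | i + 1 => by rw [pow_succ, ← Matrix.mulVec_mulVec, hv, pow_fix hv i]

theorem eq_zero_of_fix (H : Good ω) {g : Matrix F9 F9 F}
    (hs : ∑ i ∈ Finset.range 19, g ^ i = 0) {v : F9 → F} (hv : g *ᵥ v = v) : v = 0 := by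
  have h1 : (∑ i ∈ Finset.range 19, g ^ i) *ᵥ v = (19 : ℕ) • v := by
    rw [Matrix.sum_mulVec, Finset.sum_congr rfl fun i _ => pow_fix hv i, Finset.sum_const,
      Finset.card_range]
  rw [hs, Matrix.zero_mulVec] at h1
  have h2 : v + v = 0 := by funext z; exact H.add_self (v z)
  have h3 : (19 : ℕ) • v = v := by
    have : (19 : ℕ) • v = (9 : ℕ) • (v + v) + v := by
      rw [smul_add, ← add_smul, ← succ_nsmul]
    rw [this, h2, smul_zero, zero_add]
  rw [← h3, ← h1]

theorem dec_one_ne (ω : F) : dec ω 1 ≠ 0 := by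
  intro h
  have h1 := congrFun h 0
  have h2 : dec ω 1 0 = val ω (1 >>> (2 * idx 0)) := rfl
  rw [h2, show (1 : ℕ) >>> (2 * idx 0) = 1 from by decide, val_one] at h1
  exact one_ne_zero h1

theorem orderOf_eq (H : Good ω) {x : threeJ3 F ω}
    (hs : ∑ i ∈ Finset.range 19, mat ω x ^ i = 0) : orderOf x = 19 := by
  have hp : Fact (Nat.Prime 19) := ⟨by norm_num⟩
  refine orderOf_eq_prime ?_ ?_
  · apply mat_injective
    have h := mul_geom_sum (mat ω x) 19
    rw [hs, mul_zero] at h
    rw [map_pow, map_one]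
    exact (sub_eq_zero.mp h.symm)
  · intro h
    rw [h, map_one] at hs
    exact dec_one_ne ω (eq_zero_of_fix H hs (Matrix.one_mulVec _))

/-! ### scalars -/

/-- the element `i` of `F9` -/
def j : F9 := (0, 1)

theorem dot_jj : dot j j = 2 := by decide

theorem exists_scalar (H : Good ω) (G : Gens F ω) : ∃ s : threeJ3 F ω, mat ω s = ω • 1 := by
  have h := relDA H j j
  rw [dot_jj, smul_mul_assoc, one_mul, ← G.hd, ← G.ha, ← map_mul, ← map_mul] at h
  have h1 : mat ω (G.d j * G.a j * (G.a j * G.d j)⁻¹) = ω ^ 2 • 1 := by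
    rw [map_mul, h, smul_mul_assoc, ← map_mul, mul_inv_cancel, map_one]
  refine ⟨(G.d j * G.a j * (G.a j * G.d j)⁻¹) ^ 2, ?_⟩
  rw [map_pow, h1, smul_pow, one_pow, ← pow_mul]
  have : ω ^ (2 * 2) = ω := by
    calc ω ^ (2 * 2) = ω ^ 3 * ω := by ring
      _ = ω := by rw [H.cube, one_mul]
  rw [this]

theorem omegaPow_inj (H : Good ω) {m n : ZMod 3} (h : omegaPow F ω m = omegaPow F ω n) :
    m = n := by
  have hne := H.ne_one
  have hz := H.ne_zero
  have hc := H.cube
  unfold omegaPow at h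
  have key : ∀ a b : ℕ, a < b → b < 3 → ω ^ a ≠ ω ^ b := by
    intro a b hab hb e
    have h1 : ω ^ (b - a) = 1 := by
      have h2 : ω ^ a * ω ^ (b - a) = ω ^ a * 1 := by
        rw [← pow_add, mul_one, show a + (b - a) = b by omega, e]
      exact mul_left_cancel₀ (pow_ne_zero a hz) h2
    have h3 : b - a = 1 ∨ b - a = 2 := by omega
    rcases h3 with h3 | h3
    · rw [h3, pow_one] at h1; exact hne h1
    · rw [h3] at h1
      apply hne
      calc ω = ω ^ 2 * ω := by rw [h1, one_mul]
        _ = ω ^ 3 := by ring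
        _ = 1 := hc
  rcases lt_trichotomy m.val n.val with hlt | heq | hgt
  · exact absurd h (key _ _ hlt (ZMod.val_lt n))
  · exact ZMod.val_injective 3 heq
  · exact absurd h.symm (key _ _ hgt (ZMod.val_lt m))

theorem exists_sep : ∀ w z : F9, w ≠ z → ∃ Z : F9, Z.1 * w.1 + Z.2 * w.2 ≠ Z.1 * z.1 + Z.2 * z.2 := by
  decide

theorem scalar_of_commute (H : Good ω) {M : Matrix F9 F9 F}
    (hA : ∀ Z, j3A F ω Z * M = M * j3A F ω Z) (hD : ∀ Z, j3D F ω Z * M = M * j3D F ω Z) :
    M = M 0 0 • 1 := by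
  have hoff : ∀ w z, w ≠ z → M w z = 0 := by
    intro w z hwz
    obtain ⟨Z, hZ⟩ := exists_sep w z hwz
    have h := congrFun (congrFun (hA Z) w) z
    unfold j3A at h
    rw [Matrix.diagonal_mul, Matrix.mul_diagonal] at h
    by_contra hne
    apply hZ
    apply omegaPow_inj H
    exact mul_right_cancel₀ hne (h.trans (mul_comm _ _))
  have hdiag : ∀ Z, M Z Z = M 0 0 := by
    intro Z
    have h := congrFun (congrFun (hD Z) Z) 0
    rw [Matrix.mul_apply, Matrix.mul_apply, Finset.sum_eq_single (0 : F9),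
      Finset.sum_eq_single Z] at h
    · have e : j3D F ω Z Z 0 = 1 := by
        unfold j3D j3Lam
        rw [Matrix.of_apply, if_pos (by rw [zero_add]), if_pos rfl]
      rw [e, one_mul, mul_one] at h
      exact h.symm
    · intro w _ hw
      rw [hoff Z w (Ne.symm hw), zero_mul]
    · intro h'; exact absurd (Finset.mem_univ _) h'
    · intro w _ hw
      rw [hoff w 0 hw, mul_zero]
    · intro h'; exact absurd (Finset.mem_univ _) h'
  ext w z
  rw [Matrix.smul_apply, Matrix.one_apply]
  by_cases h : w = z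
  · subst h; rw [if_pos rfl, hdiag, smul_eq_mul, mul_one]
  · rw [if_neg h, hoff w z h, smul_zero]

theorem eq_pow_of_ne_zero [Fintype F] (hF : Fintype.card F = 4) (H : Good ω) {x : F}
    (hx : x ≠ 0) : ∃ k : ℕ, x = ω ^ k := by
  obtain ⟨n, -, hn⟩ := exists_dec hF H (fun _ : F9 => x)
  have h := congrFun hn 0
  rw [dec_apply] at h
  unfold val at h
  revert h
  cases (n >>> (2 * idx 0)).testBit 0 <;> cases (n >>> (2 * idx 0)).testBit 1
  · intro h; simp at h; exact absurd h.symm hx
  · intro h; exact ⟨1, by simpa using h.symm⟩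
  · intro h; exact ⟨0, by simpa using h.symm⟩
  · intro h; exact ⟨2, by rw [H.sq]; simpa using h.symm⟩

theorem center_eq [Fintype F] (hF : Fintype.card F = 4) (H : Good ω) {s : threeJ3 F ω}
    (hs : mat ω s = ω • 1) : Subgroup.center (threeJ3 F ω) = Subgroup.zpowers s := by
  obtain ⟨G⟩ := exists_gens hF H
  apply le_antisymm
  · intro g hg
    rw [Subgroup.mem_center_iff] at hg
    have h1 := scalar_of_commute H (M := mat ω g)
      (fun Z => by rw [← G.ha, ← map_mul, hg, map_mul])
      (fun Z => by rw [← G.hd, ← map_mul, hg, map_mul])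
    have h2 : mat ω g 0 0 ≠ 0 := by
      intro h0
      rw [h0, zero_smul] at h1
      have h3 : mat ω (g * g⁻¹) = 0 := by rw [map_mul, h1, zero_mul]
      rw [mul_inv_cancel, map_one] at h3
      exact one_ne_zero h3
    obtain ⟨k, hk⟩ := eq_pow_of_ne_zero hF H h2
    have h3 : g = s ^ k := mat_injective (by rw [h1, hk, map_pow, hs, smul_pow, one_pow])
    rw [h3]
    exact Subgroup.pow_mem _ (Subgroup.mem_zpowers s) k
  · rw [Subgroup.zpowers_le, Subgroup.mem_center_iff]
    intro g
    apply mat_injective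
    rw [map_mul, map_mul, hs, mul_smul_comm, smul_mul_assoc, one_mul, mul_one]

theorem card_center [Fintype F] (hF : Fintype.card F = 4) (H : Good ω) :
    Nat.card (Subgroup.center (threeJ3 F ω)) = 3 := by
  obtain ⟨G⟩ := exists_gens hF H
  obtain ⟨s, hs⟩ := exists_scalar H G
  rw [center_eq hF H hs, Nat.card_zpowers]
  have hp : Fact (Nat.Prime 3) := ⟨by norm_num⟩
  refine orderOf_eq_prime ?_ ?_
  · apply mat_injective
    rw [map_pow, hs, smul_pow, one_pow, H.cube, one_smul, map_one]
  · intro h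
    rw [h, map_one] at hs
    have h1 := congrFun (congrFun hs 0) 0
    rw [Matrix.smul_apply, Matrix.one_apply_eq, smul_eq_mul, mul_one] at h1
    exact H.ne_one h1.symm

end

end Cfsg.Agent.J3.Nineteen
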