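import Cfsg.Agent.J3.Order
import Cfsg.Agent.J3.Nineteen

/-!
# Simplicity of `J₃`
-/

set_option autoImplicit false

namespace Cfsg.Agent.J3.Simple

open Cfsg.Spor Cfsg.Agent.J3.Core Cfsg.Agent.J3.Tab Cfsg.Agent.J3.Mono Cfsg.Agent.J3.Elts
open Cfsg.Agent.Lib.BitSet Cfsg.Agent.J3.Order Cfsg.Agent.J3.Nineteen Matrix

/-! ### four elements of order 19 -/

def t1 : List ℕ := compT tC (compT tE (tD j))
def t2 : List ℕ := compT tC (compT (compT (tS 1) (compT tE (tA j))) (tD j))
def t3 : List ℕ := compT tC (compT (compT tE tE) (tD j))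
def t4 : List ℕ := compT tC (compT tE (tD (-j)))

theorem chk_t1 : chk19 t1 = true := by decide +kernel
theorem chk_t2 : chk19 t2 = true := by decide +kernel
theorem chk_t3 : chk19 t3 = true := by decide +kernel
theorem chk_t4 : chk19 t4 = true := by decide +kernel

theorem chkPow : ∀ Z : F9, Z ≠ 0 → ∃ n < 8, beqL (cols (powT (tB u0) n)) (cols (tB Z)) = true := by
  decide +kernel

/-- every nonzero element is `conj u * j` and `j / u` -/
theorem exists_conj : ∀ Z : F9, Z ≠ 0 → ∃ u : F9, u ≠ 0 ∧ F9.mul (conj9 u) j = Z := by decide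
theorem exists_div : ∀ Z : F9, Z ≠ 0 → ∃ u : F9, u ≠ 0 ∧ F9.div j u = Z := by decide

section
variable {F : Type*} [Field F] {ω : F}

theorem rS1 (H : Good ω) {s : threeJ3 F ω} (hs : mat ω s = ω • 1) : RepG ω (tS 1) s := by
  have h := repS H 1 (by norm_num)
  rw [pow_one] at h
  unfold RepG
  rw [hs]
  exact h

/-- a homomorphism killing the elements of order 19 is trivial -/
theorem hom_trivial {Γ : Type*} [Group Γ] (H : Good ω) (G : Gens F ω)
    {s : threeJ3 F ω} (hs : mat ω s = ω • 1) (q : threeJ3 F ω →* Γ)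
    (hq : ∀ y : threeJ3 F ω, orderOf y = 19 → q y = 1) : q.ker = ⊤ := by
  have hs1 := rS1 H hs
  have r1 : RepG ω t1 (G.c * (G.e * G.d j)) := (rC G H).mul ((rE G H).mul (rD G H _))
  have r2 : RepG ω t2 (G.c * ((s * (G.e * G.a j)) * G.d j)) :=
    (rC G H).mul ((hs1.mul ((rE G H).mul (rA G H _))).mul (rD G H _))
  have r3 : RepG ω t3 (G.c * ((G.e * G.e) * G.d j)) :=
    (rC G H).mul (((rE G H).mul (rE G H)).mul (rD G H _))
  have r4 : RepG ω t4 (G.c * (G.e * G.d (-j))) := (rC G H).mul ((rE G H).mul (rD G H _))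
  have q1 := hq _ (orderOf_eq H (sum_eq_zero H r1 chk_t1))
  have q2 := hq _ (orderOf_eq H (sum_eq_zero H r2 chk_t2))
  have q3 := hq _ (orderOf_eq H (sum_eq_zero H r3 chk_t3))
  have q4 := hq _ (orderOf_eq H (sum_eq_zero H r4 chk_t4))
  simp only [map_mul] at q1 q2 q3 q4
  -- `E ↦ 1`
  have hE : q G.e = 1 := by
    have h := mul_left_cancel (q3.trans q1.symm)
    rw [mul_assoc] at h
    have h2 := mul_left_cancel h
    have h3 : q G.e * q (G.d j) = 1 * q (G.d j) := by rw [one_mul]; exact h2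
    exact mul_right_cancel h3
  rw [hE, one_mul] at q1 q2 q4
  -- `ω A_i ↦ 1`
  have hSA : q s * q (G.a j) = 1 := by
    have h := mul_left_cancel (q2.trans q1.symm)
    have h3 : (q s * q (G.a j)) * q (G.d j) = 1 * q (G.d j) := by rw [one_mul]; exact h
    exact mul_right_cancel h3
  -- scalars
  have hScomm : ∀ x : threeJ3 F ω, s * x = x * s := by
    intro x
    apply mat_injective
    rw [map_mul, map_mul, hs, mul_smul_comm, smul_mul_assoc, one_mul, mul_one]
  have hDA : G.d j * G.a j = s ^ 2 * (G.a j * G.d j) := by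
    apply mat_injective
    rw [map_mul, map_mul, map_pow, map_mul, hs, G.hd, G.ha, relDA H j j, dot_jj, smul_pow, one_pow]
  have hS2 : q s ^ 2 = 1 := by
    have h := congrArg q hDA
    simp only [map_mul, map_pow] at h
    have hA : q (G.a j) = (q s)⁻¹ := by
      rw [eq_inv_iff_mul_eq_one, ← map_mul, ← hScomm, map_mul]; exact hSA
    have hc : q (G.d j) * q s = q s * q (G.d j) := by rw [← map_mul, ← hScomm, map_mul]
    have hc' : q (G.d j) * (q s)⁻¹ = (q s)⁻¹ * q (G.d j) := by
      rw [eq_inv_mul_iff_mul_eq, ← mul_assoc, ← hc, mul_inv_cancel_right]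
    rw [hA, hc'] at h
    have h3 : 1 * ((q s)⁻¹ * q (G.d j)) = q s ^ 2 * ((q s)⁻¹ * q (G.d j)) := by rw [one_mul]; exact h
    exact (mul_right_cancel h3).symm
  have hS3 : q s ^ 3 = 1 := by
    rw [← map_pow]
    have : s ^ 3 = 1 := by
      apply mat_injective
      rw [map_pow, hs, smul_pow, one_pow, H.cube, one_smul, map_one]
    rw [this, map_one]
  have hS : q s = 1 := by
    rw [pow_succ, hS2, one_mul] at hS3; exact hS3
  have hAj : q (G.a j) = 1 := by rw [hS, one_mul] at hSA; exact hSA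
  -- all scalars
  have hscal : ∀ x : threeJ3 F ω, ∀ n : ℕ, mat ω x = ω ^ n • 1 → q x = 1 := by
    intro x n hx
    have : x = s ^ n := mat_injective (by rw [hx, map_pow, hs, smul_pow, one_pow])
    rw [this, map_pow, hS, one_pow]
  -- all `A`
  have hA0 : G.a 0 = 1 := mat_injective (by
    rw [G.ha, map_one]
    exact Rep.ext (repA H 0) (rep_one H) (by decide +kernel))
  have hA : ∀ Z, q (G.a Z) = 1 := by
    intro Z
    by_cases hZ : Z = 0
    · rw [hZ, hA0, map_one]
    · obtain ⟨u, hu, e⟩ := exists_conj Z hZ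
      have h1 : G.a j * G.b u = G.b u * G.a Z := mat_injective (by
        rw [map_mul, map_mul, G.ha, G.hb u hu, G.ha, relAB H j u hu, e])
      have h2 := congrArg q h1
      rw [map_mul, map_mul, hAj, one_mul] at h2
      exact (mul_eq_left.mp h2.symm)
  -- `D`
  have hDm : q (G.d (-j)) = q (G.d j) := mul_left_cancel (q4.trans q1.symm)
  have hDj : q (G.d j) = 1 := by
    obtain ⟨t, k, a, h⟩ := relDD H j j
    have h1 : G.d j * G.d j = s ^ t * (G.e ^ k * (G.a a * G.d (j + j))) := by
      apply mat_injective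
      simp only [map_mul, map_pow, G.hd, G.ha, G.he, hs]
      rw [h, smul_pow, one_pow]
    have h2 := congrArg q h1
    simp only [map_mul, map_pow] at h2
    rw [hS, hE, hA, one_pow, one_pow, one_mul, one_mul, one_mul,
      show j + j = -j by decide, hDm] at h2
    exact mul_eq_left.mp h2
  have hD0 : G.d 0 = 1 := mat_injective (by
    rw [G.hd, map_one]
    exact Rep.ext (repD H 0) (rep_one H) (by decide +kernel))
  have hD : ∀ Z, q (G.d Z) = 1 := by
    intro Z
    by_cases hZ : Z = 0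
    · rw [hZ, hD0, map_one]
    · obtain ⟨u, hu, e⟩ := exists_div Z hZ
      have h1 : G.d j * G.b u = G.b u * G.d Z := mat_injective (by
        rw [map_mul, map_mul, G.hd, G.hb u hu, G.hd, relDB H j u hu, e])
      have h2 := congrArg q h1
      rw [map_mul, map_mul, hDj, one_mul] at h2
      exact (mul_eq_left.mp h2.symm)
  -- `C`
  have hC : q G.c = 1 := by rw [hDj, mul_one] at q1; exact q1
  -- `B`
  have hB8 : q (G.b u0) ^ 8 = 1 := by
    rw [← map_pow, ← orderOf_b G H, pow_orderOf_eq_one, map_one]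
  have hB22 : q (G.b (2, 2)) ^ 5 = 1 := by
    have h := congrArg q (x5_pow G H)
    rw [map_pow, map_one] at h
    unfold x5 at h
    simp only [map_mul] at h
    rw [hC, hA, hD, one_mul, one_mul, one_mul] at h
    exact h
  have hpow : ∀ Z : F9, Z ≠ 0 → ∃ n : ℕ, G.b Z = G.b u0 ^ n := by
    intro Z hZ
    obtain ⟨n, -, hn⟩ := chkPow Z hZ
    exact ⟨n, ((rB G H Z hZ).ext ((rB G H u0 u0_ne).pow H n) (beqL_eq hn).symm)⟩
  have hB22' : q (G.b (2, 2)) = 1 := by
    obtain ⟨n, hn⟩ := hpow (2, 2) (by decide)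
    have h8 : q (G.b (2, 2)) ^ 8 = 1 := by
      rw [hn, map_pow, ← pow_mul, mul_comm, pow_mul, hB8, one_pow]
    have h16 : q (G.b (2, 2)) ^ 16 = 1 := by
      rw [show (16 : ℕ) = 8 * 2 by norm_num, pow_mul, h8, one_pow]
    have h15 : q (G.b (2, 2)) ^ 15 = 1 := by
      rw [show (15 : ℕ) = 5 * 3 by norm_num, pow_mul, hB22, one_pow]
    rw [pow_succ, h15, one_mul] at h16
    exact h16
  have hBu0 : q (G.b u0) = 1 := by
    have h1 : G.b u0 = G.b (2, 2) ^ 5 :=
      (rB G H u0 u0_ne).ext ((rB G H (2, 2) (by decide)).pow H 5)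
        (beqL_eq (by decide +kernel))
    rw [h1, map_pow, hB22', one_pow]
  have hB : ∀ Z, Z ≠ 0 → q (G.b Z) = 1 := by
    intro Z hZ
    obtain ⟨n, hn⟩ := hpow Z hZ
    rw [hn, map_pow, hBu0, one_pow]
  refine G.eq_top H (fun x n hx => ?_) (fun Z => ?_) (fun Z => ?_) (fun Z hZ => ?_) ?_ ?_
  · rw [MonoidHom.mem_ker]; exact hscal x n hx
  · rw [MonoidHom.mem_ker]; exact hA Z
  · rw [MonoidHom.mem_ker]; exact hD Z
  · rw [MonoidHom.mem_ker]; exact hB Z hZ
  · rw [MonoidHom.mem_ker]; exact hE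
  · rw [MonoidHom.mem_ker]; exact hC

theorem subgroup_eq_top (H : Good ω) (G : Gens F ω)
    {s : threeJ3 F ω} (hs : mat ω s = ω • 1) (N : Subgroup (threeJ3 F ω)) [N.Normal]
    (hN : ∀ y : threeJ3 F ω, orderOf y = 19 → y ∈ N) : N = ⊤ := by
  have h := hom_trivial H G hs (QuotientGroup.mk' N) (fun y hy => by
    rw [QuotientGroup.mk'_apply, QuotientGroup.eq_one_iff]; exact hN y hy)
  rwa [QuotientGroup.ker_mk'] at h

/-! ### fixed points -/

theorem nineteen_sq : ¬ 19 ^ 2 ∣ 150698880 := by norm_num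

/-- no element of order 19 fixes a nonzero vector -/
theorem fix_nineteen [Fintype F] (hF : Fintype.card F = 4) (H : Good ω) (G : Gens F ω)
    {y : threeJ3 F ω} (hy : orderOf y = 19) {v : F9 → F} (hv : mat ω y *ᵥ v = v) : v = 0 := by
  have r1 : RepG ω t1 (G.c * (G.e * G.d j)) := (rC G H).mul ((rE G H).mul (rD G H _))
  have hs := sum_eq_zero H r1 chk_t1
  have ho := orderOf_eq H hs
  set x := G.c * (G.e * G.d j) with hx
  have hcard := card_threeJ3 hF H
  have h19 : ¬ 19 ^ 2 ∣ Nat.card (threeJ3 F ω) := by rw [hcard]; exact nineteen_sq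
  obtain ⟨g, k, hgk⟩ := Fix.exists_conj_pow (p := 19) (by norm_num) h19 ho hy
  -- `x^k` fixes `g⁻¹ v`
  have h1 : mat ω (x ^ k) *ᵥ (mat ω g⁻¹ *ᵥ v) = mat ω g⁻¹ *ᵥ v := by
    have h2 : x ^ k * g⁻¹ = g⁻¹ * y := by rw [hgk]; group
    rw [Matrix.mulVec_mulVec, ← map_mul, h2, map_mul, ← Matrix.mulVec_mulVec, hv]
  -- `x` is a power of `x^k`
  have hk : ¬ 19 ∣ k := by
    intro hk
    obtain ⟨m, rfl⟩ := hk
    have : x ^ (19 * m) = 1 := by rw [pow_mul, ← ho, pow_orderOf_eq_one, one_pow]
    rw [this, mul_one, mul_inv_cancel] at hgk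
    rw [hgk, orderOf_one] at hy
    norm_num at hy
  have hcop : Nat.Coprime k (orderOf x) := by
    rw [ho]
    exact ((Nat.Prime.coprime_iff_not_dvd (by norm_num)).mpr hk).symm
  obtain ⟨m, hm⟩ := exists_pow_eq_self_of_coprime hcop
  have h3 : mat ω x *ᵥ (mat ω g⁻¹ *ᵥ v) = mat ω g⁻¹ *ᵥ v := by
    have h4 : mat ω x = mat ω (x ^ k) ^ m := by rw [← map_pow, hm]
    rw [h4]
    exact pow_fix h1 m
  have h5 := eq_zero_of_fix H hs h3
  have h6 : mat ω g *ᵥ (mat ω g⁻¹ *ᵥ v) = v := by
    rw [Matrix.mulVec_mulVec, ← map_mul, mul_inv_cancel, map_one, Matrix.one_mulVec]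
  rw [← h6, h5, Matrix.mulVec_zero]

/-- the additive group of vectors fixed by `h` -/
def fixV (ω : F) (h : threeJ3 F ω) : AddSubgroup (F9 → F) where
  carrier := {v | mat ω h *ᵥ v = v}
  zero_mem' := Matrix.mulVec_zero _
  add_mem' := by
    intro a b ha hb
    show mat ω h *ᵥ (a + b) = a + b
    rw [Matrix.mulVec_add]
    have ha' : mat ω h *ᵥ a = a := ha
    have hb' : mat ω h *ᵥ b = b := hb
    rw [ha', hb']
  neg_mem' := by
    intro a ha
    show mat ω h *ᵥ (-a) = -a
    have ha' : mat ω h *ᵥ a = a := ha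
    rw [Matrix.mulVec_neg, ha']

theorem mem_fixV {h : threeJ3 F ω} {v : F9 → F} : v ∈ fixV ω h ↔ mat ω h *ᵥ v = v := Iff.rfl

theorem pow_mod_19 : ∀ i ≤ 18, 2 ^ i % 19 = 1 → i = 0 ∨ i = 18 := by decide

theorem iterate_mulVec (x : threeJ3 F ω) (v : F9 → F) (n : ℕ) :
    (fun v => mat ω x *ᵥ v)^[n] v = mat ω (x ^ n) *ᵥ v := by
  induction n with
  | zero => rw [pow_zero, map_one, Matrix.one_mulVec]; rfl
  | succ n ih => rw [Function.iterate_succ_apply', ih, pow_succ', map_mul, Matrix.mulVec_mulVec]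

/-- an element of prime order `p` with `p ∤ 4^9 - 1` commuting with an element of order 19 is 1 -/
theorem eq_one_of_commute [Fintype F] (hF : Fintype.card F = 4) (H : Good ω) (G : Gens F ω)
    {y h : threeJ3 F ω} (hy : orderOf y = 19) {p : ℕ} (hp : p.Prime)
    (hp' : ¬ p ∣ 262143) (hh : h ^ p = 1) (hc : y * h = h * y) : h = 1 := by
  classical
  have hVcard : Nat.card (F9 → F) = 262144 := by
    rw [Nat.card_eq_fintype_card, Fintype.card_fun, hF]
    have : Fintype.card F9 = 9 := by decide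
    rw [this]; norm_num
  -- `|Fix h| ≡ 4^9 mod p`
  have h1 := Fix.card_modEq hp (fun v : F9 → F => mat ω h *ᵥ v) (by
    funext v
    rw [iterate_mulVec, hh, map_one, Matrix.one_mulVec]; rfl)
  rw [hVcard] at h1
  have h1' : Nat.card {v : F9 → F // mat ω h *ᵥ v = v} = Nat.card (fixV ω h) := rfl
  rw [h1'] at h1
  -- `|Fix h| = 2^i`
  have h2 : Nat.card (fixV ω h) ∣ 2 ^ 18 := by
    have h3 := AddSubgroup.card_addSubgroup_dvd_card (fixV ω h)
    rw [hVcard] at h3
    rw [show (2 : ℕ) ^ 18 = 262144 by norm_num]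
    exact h3
  obtain ⟨i, hi, he⟩ := (Nat.dvd_prime_pow Nat.prime_two).mp h2
  -- `|Fix h| ≡ 1 mod 19`
  have hmem : ∀ v ∈ fixV ω h, mat ω y *ᵥ v ∈ fixV ω h := by
    intro v hv
    rw [mem_fixV] at hv ⊢
    rw [Matrix.mulVec_mulVec, ← map_mul, ← hc, map_mul, ← Matrix.mulVec_mulVec, hv]
  let f : fixV ω h → fixV ω h := fun v => ⟨mat ω y *ᵥ v, hmem v v.2⟩
  have hf : ∀ (n : ℕ) (v : fixV ω h), ((f^[n] v : fixV ω h) : F9 → F) = mat ω (y ^ n) *ᵥ v := by
    intro n
    induction n with
    | zero => intro v; rw [pow_zero, map_one, Matrix.one_mulVec]; rfl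
    | succ n ih =>
      intro v
      rw [Function.iterate_succ_apply']
      show mat ω y *ᵥ ((f^[n] v : fixV ω h) : F9 → F) = _
      rw [ih, pow_succ', map_mul, Matrix.mulVec_mulVec]
  have h4 := Fix.card_modEq (p := 19) (by norm_num) f (by
    funext v
    apply Subtype.ext
    rw [hf, ← hy, pow_orderOf_eq_one, map_one, Matrix.one_mulVec]; rfl)
  have h5 : Nat.card {v : fixV ω h // f v = v} = 1 := by
    rw [Nat.card_eq_one_iff_unique]
    refine ⟨⟨?_⟩, ⟨⟨0, ?_⟩⟩⟩
    · intro a b
      have ha : (a.1 : F9 → F) = 0 := fix_nineteen hF H G hy (congrArg Subtype.val a.2)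
      have hb : (b.1 : F9 → F) = 0 := fix_nineteen hF H G hy (congrArg Subtype.val b.2)
      apply Subtype.ext
      apply Subtype.ext
      rw [ha, hb]
    · apply Subtype.ext
      show mat ω y *ᵥ 0 = 0
      exact Matrix.mulVec_zero _
  rw [h5, he] at h4
  have h6 : 2 ^ i % 19 = 1 := by
    have := h4
    unfold Nat.ModEq at this
    simpa using this
  rcases pow_mod_19 i hi h6 with h0 | h18
  · exfalso
    rw [he, h0, pow_zero] at h1
    apply hp'
    have := (Nat.modEq_iff_dvd' (by norm_num)).mp h1.symm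
    simpa using this
  · have hall : ∀ v : F9 → F, v ∈ fixV ω h := by
      have h7 : fixV ω h = ⊤ := by
        apply AddSubgroup.eq_top_of_card_eq
        rw [he, h18, hVcard]; norm_num
      intro v
      rw [h7]; exact AddSubgroup.mem_top v
    apply mat_injective
    rw [map_one]
    ext w z
    have h8 := mem_fixV.mp (hall (Pi.single z 1))
    rw [Matrix.mulVec_single_one] at h8
    have h9 := congrFun h8 w
    rw [Matrix.col_apply] at h9
    rw [h9, Matrix.one_apply, Pi.single_apply]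

theorem numbers {p k l : ℕ} (hp : p.Prime) (hdvd : p ^ k ∣ 150698880) (hp19 : p ≠ 19)
    (hlk : l ≤ k) (h : p ^ k % 19 = p ^ l % 19) : l = k := by
  have hfac : (150698880 : ℕ) = 2 ^ 7 * 3 ^ 6 * 5 * 17 * 19 := by norm_num
  rcases Nat.eq_zero_or_pos k with hk0 | hkpos
  · omega
  have hpd : p ∣ 150698880 := (dvd_pow_self p (by omega)).trans hdvd
  have hps : p = 2 ∨ p = 3 ∨ p = 5 ∨ p = 17 ∨ p = 19 := by
    rw [hfac, hp.dvd_mul, hp.dvd_mul, hp.dvd_mul, hp.dvd_mul] at hpd
    rcases hpd with (((h | h) | h) | h) | h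
    · left; exact (Nat.prime_dvd_prime_iff_eq hp Nat.prime_two).mp (hp.dvd_of_dvd_pow h)
    · right; left; exact (Nat.prime_dvd_prime_iff_eq hp Nat.prime_three).mp (hp.dvd_of_dvd_pow h)
    · right; right; left; exact (Nat.prime_dvd_prime_iff_eq hp (by norm_num)).mp h
    · right; right; right; left; exact (Nat.prime_dvd_prime_iff_eq hp (by norm_num)).mp h
    · right; right; right; right; exact (Nat.prime_dvd_prime_iff_eq hp (by norm_num)).mp h
  rcases hps with rfl | rfl | rfl | rfl | rfl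
  · have hk : k ≤ 7 := by
      by_contra hk
      exact absurd ((pow_dvd_pow 2 (show 8 ≤ k by omega)).trans hdvd) (by norm_num)
    interval_cases k <;> interval_cases l <;> simp_all
  · have hk : k ≤ 6 := by
      by_contra hk
      exact absurd ((pow_dvd_pow 3 (show 7 ≤ k by omega)).trans hdvd) (by norm_num)
    interval_cases k <;> interval_cases l <;> simp_all
  · have hk : k ≤ 1 := by
      by_contra hk
      exact absurd ((pow_dvd_pow 5 (show 2 ≤ k by omega)).trans hdvd) (by norm_num)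
    interval_cases k; interval_cases l <;> simp_all
  · have hk : k ≤ 1 := by
      by_contra hk
      exact absurd ((pow_dvd_pow 17 (show 2 ≤ k by omega)).trans hdvd) (by norm_num)
    interval_cases k; interval_cases l <;> simp_all
  · exact absurd rfl hp19

/-- an element of order 19 centralises every `p`-subgroup which it normalises, `p ≠ 19` -/
theorem centralizes [Fintype F] (hF : Fintype.card F = 4) (H : Good ω)
    {y : threeJ3 F ω} (hy : orderOf y = 19) {p : ℕ} (hp : p.Prime) (hp19 : p ≠ 19)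
    (Q : Subgroup (threeJ3 F ω)) (hQ : IsPGroup p Q) (hn : ∀ q ∈ Q, y * q * y⁻¹ ∈ Q) :
    ∀ q ∈ Q, y * q = q * y := by
  have hfact : Fact p.Prime := ⟨hp⟩
  have h1 := Fix.card_subgroup_modEq (p := 19) (by norm_num) Q y
    (by rw [← hy, pow_orderOf_eq_one]) hn
  obtain ⟨k, hk⟩ := IsPGroup.iff_card.mp hQ
  have hle : (Q ⊓ Subgroup.centralizer {y} : Subgroup (threeJ3 F ω)) ≤ Q := inf_le_left
  have h2 : Nat.card (Q ⊓ Subgroup.centralizer {y} : Subgroup (threeJ3 F ω)) ∣ p ^ k := by
    rw [← hk]; exact Subgroup.card_dvd_of_le hle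
  obtain ⟨l, hl, he⟩ := (Nat.dvd_prime_pow hp).mp h2
  rw [hk, he] at h1
  have hdvd : p ^ k ∣ 150698880 := by
    rw [← hk, ← card_threeJ3 hF H]; exact Subgroup.card_subgroup_dvd_card Q
  have h3 := numbers hp hdvd hp19 hl h1
  have h4 : (Q ⊓ Subgroup.centralizer {y} : Subgroup (threeJ3 F ω)) = Q :=
    Subgroup.eq_of_le_of_card_ge hle (by rw [hk, he, h3])
  intro q hq
  rw [← h4] at hq
  exact (Subgroup.mem_centralizer_singleton_iff.mp hq.2).symm

/-- normal subgroups of `3·J₃` -/
theorem normal_eq_top_or_le [Fintype F] (hF : Fintype.card F = 4) (H : Good ω)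
    (N : Subgroup (threeJ3 F ω)) [hN : N.Normal] :
    N = ⊤ ∨ N ≤ Subgroup.center (threeJ3 F ω) := by
  obtain ⟨G⟩ := exists_gens hF H
  obtain ⟨s, hs⟩ := exists_scalar H G
  have hcard := card_threeJ3 hF H
  have h19sq : ¬ 19 ^ 2 ∣ Nat.card (threeJ3 F ω) := by rw [hcard]; exact nineteen_sq
  have hp19 : Fact (Nat.Prime 19) := ⟨by norm_num⟩
  by_cases h19 : 19 ∣ Nat.card N
  · left
    obtain ⟨x, hx⟩ := exists_prime_orderOf_dvd_card' 19 h19
    refine subgroup_eq_top H G hs N (fun y hy => ?_)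
    have hx' : orderOf (x : threeJ3 F ω) = 19 := by rw [Subgroup.orderOf_coe, hx]
    obtain ⟨g, k, rfl⟩ := Fix.exists_conj_pow (p := 19) (by norm_num) h19sq hx' hy
    exact hN.conj_mem _ (N.pow_mem x.2 k) g
  · right
    have hprime : ∀ p : ℕ, p.Prime → p ∣ Nat.card N → p = 3 := by
      intro p hp hpN
      by_contra hp3
      have hfact : Fact p.Prime := ⟨hp⟩
      have hpne : p ≠ 19 := by rintro rfl; exact h19 hpN
      obtain ⟨Q⟩ : Nonempty (Sylow p N) := inferInstance
      have hfr := Sylow.normalizer_sup_eq_top Q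
      set Q' : Subgroup (threeJ3 F ω) := (Q : Subgroup N).map N.subtype with hQ'
      -- 19 divides the order of the normaliser
      let φ : Subgroup.normalizer (Q' : Set (threeJ3 F ω)) →* (threeJ3 F ω) ⧸ N :=
        (QuotientGroup.mk' N).comp (Subgroup.subtype _)
      have hφ : Function.Surjective φ := by
        intro x
        obtain ⟨g, rfl⟩ := QuotientGroup.mk_surjective x
        have hg : g ∈ Subgroup.normalizer (Q' : Set (threeJ3 F ω)) ⊔ N := by
          rw [hfr]; exact Subgroup.mem_top g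
        obtain ⟨a, ha, b, hb, rfl⟩ := Subgroup.mem_sup_of_normal_right.mp hg
        refine ⟨⟨a, ha⟩, ?_⟩
        show ((a : threeJ3 F ω) : threeJ3 F ω ⧸ N) = ((a * b : threeJ3 F ω) : threeJ3 F ω ⧸ N)
        rw [QuotientGroup.eq]
        simpa using hb
      have h1 := Subgroup.card_dvd_of_surjective φ hφ
      have h2 := Subgroup.card_eq_card_quotient_mul_card_subgroup N
      have h3 : 19 ∣ Nat.card ((threeJ3 F ω) ⧸ N) := by
        have h4 : 19 ∣ Nat.card ((threeJ3 F ω) ⧸ N) * Nat.card N := by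
          rw [← h2, hcard]; norm_num
        exact (hp19.out.dvd_mul.mp h4).resolve_right h19
      obtain ⟨y, hy⟩ := exists_prime_orderOf_dvd_card' 19 (h3.trans h1)
      have hy' : orderOf (y : threeJ3 F ω) = 19 := by rw [Subgroup.orderOf_coe, hy]
      have hQp : IsPGroup p Q' := Q.2.map N.subtype
      have hcent := centralizes hF H hy' hp hpne Q' hQp
        (fun q hq => (Subgroup.mem_normalizer_iff.mp y.2 q).mp hq)
      -- an element of order `p`
      have hpQ : p ∣ Nat.card (Q : Subgroup N) := Q.dvd_card_of_dvd_card hpN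
      obtain ⟨h, hh⟩ := exists_prime_orderOf_dvd_card' p hpQ
      have hh1 : orderOf ((h : N) : threeJ3 F ω) = p := by
        rw [Subgroup.orderOf_coe, Subgroup.orderOf_coe, hh]
      have hmem : ((h : N) : threeJ3 F ω) ∈ Q' := ⟨h, h.2, rfl⟩
      have hpdiv : p ∣ 150698880 := by
        rw [← hcard]; exact hpN.trans (Subgroup.card_subgroup_dvd_card N)
      have hnd : ¬ p ∣ 262143 := by
        intro hd
        have h5 : p ∣ Nat.gcd 150698880 262143 := Nat.dvd_gcd hpdiv hd
        have h6 : Nat.gcd 150698880 262143 = 3 ^ 3 * 19 := by norm_num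
        rw [h6, hp.dvd_mul] at h5
        rcases h5 with h5 | h5
        · exact hp3 ((Nat.prime_dvd_prime_iff_eq hp Nat.prime_three).mp (hp.dvd_of_dvd_pow h5))
        · exact hpne ((Nat.prime_dvd_prime_iff_eq hp (by norm_num)).mp h5)
      have h7 := eq_one_of_commute hF H G hy' hp hnd
        (h := ((h : N) : threeJ3 F ω)) (orderOf_dvd_iff_pow_eq_one.mp hh1.dvd) (hcent _ hmem)
      rw [h7, orderOf_one] at hh1
      exact hp.one_lt.ne hh1
    have hN3 : IsPGroup 3 N := by
      have hne : Nat.card N ≠ 0 := Nat.card_pos.ne'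
      refine IsPGroup.of_card (n := (Nat.card N).primeFactorsList.length) ?_
      exact Nat.eq_prime_pow_of_unique_prime_dvd hne (fun {d} hd hdv => hprime d hd hdv)
    have hC : Subgroup.centralizer (N : Set (threeJ3 F ω)) = ⊤ := by
      refine subgroup_eq_top H G hs _ (fun y hy => ?_)
      rw [Subgroup.mem_centralizer_iff]
      intro q hq
      exact (centralizes hF H hy Nat.prime_three (by norm_num) N hN3
        (fun q hq => hN.conj_mem q hq y) q hq).symm
    intro n hn
    rw [Subgroup.mem_center_iff]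
    intro g
    have hg : g ∈ Subgroup.centralizer (N : Set (threeJ3 F ω)) := by
      rw [hC]; exact Subgroup.mem_top g
    exact (Subgroup.mem_centralizer_iff.mp hg n hn).symm

theorem card_J3 [Fintype F] (hF : Fintype.card F = 4) (H : Good ω) :
    Nat.card (J3 F ω) = 50232960 := by
  have h1 := Subgroup.card_eq_card_quotient_mul_card_subgroup
    (Subgroup.center (threeJ3 F ω))
  rw [card_threeJ3 hF H, card_center hF H] at h1
  show Nat.card (threeJ3 F ω ⧸ Subgroup.center (threeJ3 F ω)) = _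
  omega

theorem simple_J3 [Fintype F] (hF : Fintype.card F = 4) (H : Good ω) :
    IsSimpleGroup (J3 F ω) := by
  have hnt : Nontrivial (J3 F ω) := by
    rw [← Finite.one_lt_card_iff_nontrivial, card_J3 hF H]
    norm_num
  refine { exists_pair_ne := hnt.exists_pair_ne, eq_bot_or_eq_top_of_normal := ?_ }
  intro N hN
  have hNc : (N.comap (QuotientGroup.mk' (Subgroup.center (threeJ3 F ω)))).Normal :=
    hN.comap _
  have hsurj : Function.Surjective (QuotientGroup.mk' (Subgroup.center (threeJ3 F ω))) :=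
    QuotientGroup.mk'_surjective _
  rcases normal_eq_top_or_le hF H
    (N.comap (QuotientGroup.mk' (Subgroup.center (threeJ3 F ω)))) with h | h
  · right
    rw [← Subgroup.map_comap_eq_self_of_surjective hsurj N, h]
    exact Subgroup.map_top_of_surjective _ hsurj
  · left
    rw [eq_bot_iff]
    intro x hx
    obtain ⟨g, rfl⟩ := hsurj x
    have hg := h (show g ∈ N.comap _ from hx)
    rw [Subgroup.mem_bot, QuotientGroup.mk'_apply, QuotientGroup.eq_one_iff]
    exact hg

end

end Cfsg.Agent.J3.Simple
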