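import Cfsg.Agent.J3.Core

/-!
# Orbits of `3·J₃` on the vectors of `F_4^9`

The three orbits on nonzero vectors have 69768, 130815 (the isotropic vectors) and 61560 elements.
-/

set_option autoImplicit false

namespace Cfsg.Agent.J3.Orbits

open Cfsg.Spor Cfsg.Agent.Lib.BitSet Cfsg.Agent.J3.Core Matrix

/-- Run an orbit computation, check that the result is closed under all words in `all`, and apply
a final test. -/
def checkOrbit (k : ℕ) (gens all : List (List ℕ)) (r start : ℕ) (final : ℕ → Bool) : Bool :=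
  force (bfs k gens r start) fun S => all.all (fun l => Nat.beq (img k l S) S) && final S

theorem checkOrbit_spec {k : ℕ} {gens all : List (List ℕ)} {r start : ℕ} {final : ℕ → Bool}
    (h : checkOrbit k gens all r start final = true) :
    ∃ S : ℕ, S = bfs k gens r start ∧ (∀ l ∈ all, img k l S = S) ∧ final S = true := by
  unfold checkOrbit at h
  rw [force_eq, Bool.and_eq_true, List.all_eq_true] at h
  exact ⟨_, rfl, fun l hl => Nat.eq_of_beq_eq_true (h.1 l hl), h.2⟩

/-- word of the scalar matrix `ω` -/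
def opsW : List ℕ := [529, 560, 463, 494, 397, 428, 331, 362, 265, 296, 199, 230, 133, 164, 67, 98, 1, 32]

/-- code of the scalar matrix `ω` -/
def cW (w z : F9) : ℕ := if w = z then 2 else 0

theorem chkW : chk opsW cW = true := by decide +kernel

theorem opsW_ok : okOps 18 opsW = true := by decide +kernel

theorem gens7_ok : ∀ l ∈ gens7, okOps 18 l = true := by decide +kernel

section
variable {F : Type*} [Field F] {ω : F}

theorem matF_cW : matF ω cW = ω • (1 : Matrix F9 F9 F) := by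
  ext w z
  rw [Matrix.smul_apply, Matrix.one_apply]
  show val ω (if w = z then 2 else 0) = _
  split
  · rw [val_two, smul_eq_mul, mul_one]
  · rw [val_zero, smul_eq_mul, mul_zero]

theorem dec_act_opsW (H : Good ω) (n : ℕ) (hn : n < 2 ^ 18) :
    dec ω (act opsW n) = ω • dec ω n := by
  rw [← matF_mulVec H chkW n hn, matF_cW, Matrix.smul_mulVec, Matrix.one_mulVec]

/-- a mask fixed by all generators is invariant under the whole group. -/
theorem testBit_eq_of_mem [Fintype F] (hF : Fintype.card F = 4) (H : Good ω) {S : ℕ}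
    (hS : ∀ l ∈ allOps, img 18 l S = S) {g : GL F9 F} (hg : g ∈ threeJ3 F ω) :
    ∀ n < 2 ^ 18, ∀ n' < 2 ^ 18, (g : Matrix F9 F9 F) *ᵥ dec ω n = dec ω n' →
      S.testBit n' = S.testBit n := by
  refine Subgroup.closure_induction (p := fun (g : GL F9 F) _ => ∀ n < 2 ^ 18, ∀ n' < 2 ^ 18,
    (g : Matrix F9 F9 F) *ᵥ dec ω n = dec ω n' → S.testBit n' = S.testBit n)
    ?_ ?_ ?_ ?_ hg
  · intro g hg n hn n' hn' h
    obtain ⟨l, hl, hlM⟩ := exists_ops_of_mem_gens H (M := (g : Matrix F9 F9 F)) hg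
    rw [hlM n hn] at h
    have e := dec_injOn H (act_lt (allOps_ok l hl) hn) hn' h
    rw [← e, ← img_testBit_act (l := l) (m := S) (allOps_ok l hl) hn, hS l hl]
  · intro n hn n' hn' h
    rw [Units.val_one, Matrix.one_mulVec] at h
    rw [dec_injOn H hn hn' h]
  · intro x y _ _ hx hy n hn n' hn' h
    obtain ⟨n'', hn'', e⟩ := exists_dec hF H ((y : Matrix F9 F9 F) *ᵥ dec ω n)
    rw [Units.val_mul, ← Matrix.mulVec_mulVec, ← e] at h
    rw [hx n'' hn'' n' hn' h, hy n hn n'' hn'' e.symm]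
  · intro x _ hx n hn n' hn' h
    have h2 : (x : Matrix F9 F9 F) *ᵥ dec ω n' = dec ω n := by
      rw [← h, Matrix.mulVec_mulVec, ← Units.val_mul, mul_inv_cancel, Units.val_one,
        Matrix.one_mulVec]
    exact (hx n' hn' n hn h2).symm

/-- the orbit of `dec ω a` under `3·J₃`, from a successful kernel computation. -/
theorem orbit_of_check [Fintype F] (hF : Fintype.card F = 4) (H : Good ω) {r a : ℕ}
    {final : ℕ → Bool} (ha : a < 2 ^ 18)
    (h : checkOrbit 18 gens7 allOps r (2 ^ a) (fun S => S.testBit a && final S) = true) :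
    ∃ S : ℕ, (∀ l ∈ allOps, img 18 l S = S) ∧
      (∀ n < 2 ^ 18, (S.testBit n = true ↔
        ∃ g ∈ threeJ3 F ω, dec ω n = (g : Matrix F9 F9 F) *ᵥ dec ω a)) ∧
      final S = true := by
  obtain ⟨S, hSe, hS, hf⟩ := checkOrbit_spec h
  rw [Bool.and_eq_true] at hf
  refine ⟨S, hS, ?_, hf.2⟩
  intro n hn
  constructor
  · intro h
    rw [hSe] at h
    refine bfs_induction (k := 18) (L := gens7)
      (P := fun n => ∃ g ∈ threeJ3 F ω, dec ω n = (g : Matrix F9 F9 F) *ᵥ dec ω a)
      gens7_ok ?_ ?_ n hn h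
    · rintro l hl n hn ⟨g, hg, e⟩
      obtain ⟨g', hg', e'⟩ := inG_gens7 hF H l hl
      refine ⟨g' * g, mul_mem hg' hg, ?_⟩
      rw [Units.val_mul, ← Matrix.mulVec_mulVec, ← e, e' n hn]
    · intro n hn hb
      rw [Nat.testBit_two_pow, decide_eq_true_eq] at hb
      subst hb
      exact ⟨1, one_mem _, by rw [Units.val_one, Matrix.one_mulVec]⟩
  · rintro ⟨g, hg, e⟩
    rw [testBit_eq_of_mem hF H hS hg a ha n hn e.symm]
    exact hf.1

end

/-! ### the orbit of `e_0` -/

theorem check0 : checkOrbit 18 gens7 allOps 5 (2 ^ 1) (fun S => S.testBit 1 &&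
    (Nat.beq (img 18 opsW S) S && (Nat.beq (pc 18 S) 69768 && !(S.testBit 0)))) = true := by
  decide +kernel

/-- The orbit of `e_0` under `3·J₃` is a set of 69768 nonzero vectors, invariant under the
scalars. -/
theorem exists_orbit0 {F : Type*} [Field F] [Fintype F] (hF : Fintype.card F = 4) {ω : F}
    (H : Good ω) : ∃ S : ℕ, (∀ l ∈ allOps, img 18 l S = S) ∧
      (∀ n < 2 ^ 18, (S.testBit n = true ↔
        ∃ g ∈ threeJ3 F ω, dec ω n = (g : Matrix F9 F9 F) *ᵥ dec ω 1)) ∧
      img 18 opsW S = S ∧ pc 18 S = 69768 ∧ S.testBit 0 = false := by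
  obtain ⟨S, h1, h2, h3⟩ := orbit_of_check hF H (r := 5) (a := 1) (by norm_num) check0
  rw [Bool.and_eq_true, Bool.and_eq_true] at h3
  refine ⟨S, h1, h2, Nat.eq_of_beq_eq_true h3.1, Nat.eq_of_beq_eq_true h3.2.1, ?_⟩
  have := h3.2.2
  simpa using this

/-! ### the orbit of the isotropic vector `e_1 + e_{-1}` -/

/-- mask of the nonzero isotropic vectors -/
def isoMask : ℕ :=
  ((2 ^ (2 ^ 18) - 1) ^^^ 2 ^ 0) ^^^
    ([0, 1, 2, 3, 4, 5, 6, 7, 8].foldl
      (fun m z => m ^^^ (proj 18 (2 * z) ||| proj 18 (2 * z + 1))) 0)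

/-- parity of the number of nonzero coordinates -/
def par (n : ℕ) : Bool :=
  [0, 1, 2, 3, 4, 5, 6, 7, 8].foldl
    (fun b z => b ^^ (n.testBit (2 * z) || n.testBit (2 * z + 1))) false

theorem foldl_testBit (n : ℕ) (hn : n < 2 ^ 18) : ∀ (L : List ℕ) (m : ℕ) (b : Bool),
    (∀ z ∈ L, z < 9) → m.testBit n = b →
    (L.foldl (fun m z => m ^^^ (proj 18 (2 * z) ||| proj 18 (2 * z + 1))) m).testBit n =
      L.foldl (fun b z => b ^^ (n.testBit (2 * z) || n.testBit (2 * z + 1))) b
  | [], m, b, _, h => h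
  | z :: L, m, b, hL, h => by
    rw [List.foldl_cons, List.foldl_cons]
    refine foldl_testBit n hn L _ _ (fun z hz => hL z (List.mem_cons_of_mem _ hz)) ?_
    have hz := hL z List.mem_cons_self
    rw [Nat.testBit_xor, Nat.testBit_or, proj_testBit 18 _ n (by omega),
      proj_testBit 18 _ n (by omega), h, decide_eq_true hn, Bool.true_and, Bool.true_and]

theorem isoMask_testBit (n : ℕ) (hn : n < 2 ^ 18) :
    isoMask.testBit n = (!(decide (n = 0)) && !(par n)) := by
  unfold isoMask par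
  rw [Nat.testBit_xor, Nat.testBit_xor, Nat.testBit_two_pow_sub_one, Nat.testBit_two_pow,
    decide_eq_true hn, foldl_testBit n hn _ 0 false (by decide) (Nat.zero_testBit n)]
  by_cases h0 : n = 0
  · subst h0; decide
  · rw [decide_eq_false h0, decide_eq_false (Ne.symm h0)]
    simp

theorem check1 : checkOrbit 18 gens7 allOps 4 (2 ^ 4160)
    (fun S => S.testBit 4160 && Nat.beq S isoMask) = true := by
  decide +kernel

theorem exists_orbit1 {F : Type*} [Field F] [Fintype F] (hF : Fintype.card F = 4) {ω : F}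
    (H : Good ω) : ∀ n < 2 ^ 18, ((n ≠ 0 ∧ par n = false) ↔
        ∃ g ∈ threeJ3 F ω, dec ω n = (g : Matrix F9 F9 F) *ᵥ dec ω 4160) := by
  obtain ⟨S, h1, h2, h3⟩ := orbit_of_check hF H (r := 4) (a := 4160) (by norm_num) check1
  have h4 := Nat.eq_of_beq_eq_true h3
  intro n hn
  rw [← h2 n hn, h4, isoMask_testBit n hn]
  simp

/-! ### the third orbit: `e_0 + e_1 + e_{-1}` -/

theorem check2 : checkOrbit 18 gens7 allOps 4 (2 ^ 4161)
    (fun S => S.testBit 4161 &&
      (Nat.beq (img 18 opsW S) S && (Nat.beq (pc 18 S) 61560 && !(S.testBit 0)))) = true := by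
  decide +kernel

theorem exists_orbit2 {F : Type*} [Field F] [Fintype F] (hF : Fintype.card F = 4) {ω : F}
    (H : Good ω) : ∃ S : ℕ, (∀ l ∈ allOps, img 18 l S = S) ∧
      (∀ n < 2 ^ 18, (S.testBit n = true ↔
        ∃ g ∈ threeJ3 F ω, dec ω n = (g : Matrix F9 F9 F) *ᵥ dec ω 4161)) ∧
      img 18 opsW S = S ∧ pc 18 S = 61560 ∧ S.testBit 0 = false := by
  obtain ⟨S, h1, h2, h3⟩ := orbit_of_check hF H (r := 4) (a := 4161) (by norm_num) check2
  rw [Bool.and_eq_true, Bool.and_eq_true] at h3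
  refine ⟨S, h1, h2, Nat.eq_of_beq_eq_true h3.1, Nat.eq_of_beq_eq_true h3.2.1, ?_⟩
  have := h3.2.2
  simpa using this

end Cfsg.Agent.J3.Orbits
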