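import Cfsg.Agent.J3.Cert0
import Cfsg.Agent.J3.Cert1
import Cfsg.Agent.J3.Cert2
import Cfsg.Agent.J3.Cert3

/-!
# `|3·J₃| ≤ 20 · 1944 · 5832`
-/

set_option autoImplicit false

namespace Cfsg.Agent.J3.Upper

open Cfsg.Spor Cfsg.Agent.J3.Core Cfsg.Agent.J3.Tab Cfsg.Agent.J3.Mono Cfsg.Agent.J3.DCos
open Cfsg.Agent.Lib.BitSet Matrix

theorem exists_chkI : ∀ i < 20, ∃ l, chkI i l = true := by
  intro i hi
  interval_cases i
  · exact ⟨_, Cert0.chk0⟩
  · exact ⟨_, Cert0.chk1⟩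
  · exact ⟨_, Cert0.chk2⟩
  · exact ⟨_, Cert0.chk3⟩
  · exact ⟨_, Cert0.chk4⟩
  · exact ⟨_, Cert1.chk5⟩
  · exact ⟨_, Cert1.chk6⟩
  · exact ⟨_, Cert1.chk7⟩
  · exact ⟨_, Cert1.chk8⟩
  · exact ⟨_, Cert1.chk9⟩
  · exact ⟨_, Cert2.chk10⟩
  · exact ⟨_, Cert2.chk11⟩
  · exact ⟨_, Cert2.chk12⟩
  · exact ⟨_, Cert2.chk13⟩
  · exact ⟨_, Cert2.chk14⟩
  · exact ⟨_, Cert3.chk15⟩
  · exact ⟨_, Cert3.chk16⟩
  · exact ⟨_, Cert3.chk17⟩
  · exact ⟨_, Cert3.chk18⟩
  · exact ⟨_, Cert3.chk19⟩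

theorem chkG0 : beqL (cols (gG 0)) (cols (tS 0)) = true := by decide +kernel
theorem chkE3 : beqL (compT tE (compT tE (cols tE))) (cols (tS 0)) = true := by decide +kernel

section
variable {F : Type*} [Field F] {ω : F}

theorem relE3 (H : Good ω) : j3E F ω 0 ^ 3 = 1 := by
  have h1 := repS H 0 (by norm_num)
  rw [pow_zero, one_smul] at h1
  have h2 : j3E F ω 0 * (j3E F ω 0 * j3E F ω 0) = 1 :=
    Rep.ext ((repE H).mul ((repE H).mul (repE H))) h1
      (by rw [cols_compT, cols_compT]; exact beqL_eq chkE3)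
  rw [pow_succ', pow_two, h2]

theorem inS_one (H : Good ω) : InS ω (1 : Matrix F9 F9 F) := by
  have h1 := repS H 0 (by norm_num)
  rw [pow_zero, one_smul] at h1
  have h2 : gM ω 0 = 1 := Rep.ext (repG H 0 (by norm_num)) h1 (beqL_eq chkG0)
  exact ⟨0, by norm_num, 1, 1, mon_one H, mon_one H, by rw [h2]; simp⟩

theorem inS_mon (H : Good ω) {m x : Matrix F9 F9 F} (hm : Mon ω m) (hx : InS ω x) :
    InS ω (m * x) := by
  obtain ⟨i, hi, y, z, hy, hz, rfl⟩ := hx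
  exact ⟨i, hi, m * y, z, hm.mul H hy, hz, by rw [mul_assoc]⟩

theorem inS_C (H : Good ω) {x : Matrix F9 F9 F} (hx : InS ω x) :
    InS ω (j3C F F9.one * x) := by
  obtain ⟨i, hi, y, z, hy, hz, rfl⟩ := hx
  obtain ⟨r, u, k, a, w, hu, rfl⟩ := hy
  obtain ⟨l, hl⟩ := exists_chkI i hi
  obtain ⟨c, hc⟩ := chkI_spec hl (idx a) (idx w) (idx_lt a) (idx_lt w)
  have h := of_chkOne (ω := ω) H hi (idx_lt a) (idx_lt w) hc
  rw [z9_idx, z9_idx] at h
  obtain ⟨j, hj, y', z', hy', hz', e⟩ := h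
  have hCEk : j3C F F9.one * j3E F ω 0 ^ k = j3E F ω 0 ^ k * j3C F F9.one :=
    (Commute.pow_right (relCE H : Commute (j3C F F9.one) (j3E F ω 0)) k)
  refine ⟨j, hj, ω ^ r • (j3B F (F9.inv u) * (j3E F ω 0 ^ k * y')), z' * z,
    ((hy'.mulEk H k).mulB H _ (inv_ne u hu)).smul r, hz'.mul H hz, ?_⟩
  calc j3C F F9.one * (ω ^ r • (j3B F u * (j3E F ω 0 ^ k * (j3A F ω a * j3D F ω w))) *
        (gM ω i * z))
      = ω ^ r • ((j3C F F9.one * j3B F u) * (j3E F ω 0 ^ k *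
          ((j3A F ω a * j3D F ω w) * (gM ω i * z)))) := by
        simp only [mul_assoc, mul_smul_comm, smul_mul_assoc]
    _ = ω ^ r • (j3B F (F9.inv u) * ((j3C F F9.one * j3E F ω 0 ^ k) *
          ((j3A F ω a * j3D F ω w) * (gM ω i * z)))) := by
        rw [relCB H u hu]
        simp only [mul_assoc]
    _ = ω ^ r • (j3B F (F9.inv u) * (j3E F ω 0 ^ k *
          ((j3C F F9.one * ((j3A F ω a * j3D F ω w) * gM ω i)) * z))) := by
        rw [hCEk]
        simp only [mul_assoc]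
    _ = _ := by
        rw [e]
        simp only [mul_assoc, smul_mul_assoc]

theorem mon_A (H : Good ω) (Z : F9) : Mon ω (j3A F ω Z) := by
  have := (mon_one H).mulA H Z; rwa [mul_one] at this
theorem mon_D (H : Good ω) (Z : F9) : Mon ω (j3D F ω Z) := by
  have := (mon_one H).mulD H Z; rwa [mul_one] at this
theorem mon_B (H : Good ω) (Z : F9) (hZ : Z ≠ 0) : Mon ω (j3B F Z) := by
  have := (mon_one H).mulB H Z hZ; rwa [mul_one] at this
theorem mon_E (H : Good ω) (Z : F9) : Mon ω (j3E F ω Z) := by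
  rw [relE H Z, smul_mul_assoc, one_mul]
  exact ((mon_A H Z).mulE H).smul _

theorem inS_gens (H : Good ω) {M x : Matrix F9 F9 F} (hM : M ∈ j3Gens F ω) (hx : InS ω x) :
    InS ω (M * x) := by
  rcases hM with (((⟨Z, rfl⟩ | ⟨Z, rfl⟩) | ⟨Z, rfl⟩) | ⟨Z, hZ, rfl⟩) | ⟨Z, hZ, rfl⟩
  · exact inS_mon H (mon_A H Z) hx
  · exact inS_mon H (mon_E H Z) hx
  · exact inS_mon H (mon_D H Z) hx
  · exact inS_mon H (mon_B H Z hZ) hx
  · rw [relCZ H Z hZ, mul_assoc]
    exact inS_mon H (mon_B H Z hZ) (inS_C H hx)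

theorem inS_of_mem [Finite F] (H : Good ω) {g : GL F9 F} (hg : g ∈ threeJ3 F ω) :
    InS ω (g : Matrix F9 F9 F) := by
  have hfin : Finite (GL F9 F) := inferInstance
  unfold threeJ3 at hg
  induction hg using Subgroup.closure_induction_left with
  | one => rw [Units.val_one]; exact inS_one H
  | mul_left x hx y hy ih => rw [Units.val_mul]; exact inS_gens H hx ih
  | inv_mul_cancel x hx y hy ih =>
    have hpow : ∀ n : ℕ, InS ω ((x ^ n * y : GL F9 F) : Matrix F9 F9 F) := by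
      intro n
      induction n with
      | zero => rw [pow_zero, one_mul]; exact ih
      | succ n ihn => rw [pow_succ', mul_assoc, Units.val_mul]; exact inS_gens H hx ihn
    have e : x⁻¹ = x ^ (orderOf x - 1) := by
      rw [inv_eq_iff_mul_eq_one, ← pow_succ', Nat.sub_add_cancel (orderOf_pos x),
        pow_orderOf_eq_one]
    rw [e]
    exact hpow _

/-- parameters -/
abbrev U8 : Type := {u : F9 // u ≠ 0}

/-- all products -/
def phi (ω : F) (p : Fin 20 × (U8 × Fin 3 × F9 × F9) × (Fin 3 × U8 × Fin 3 × F9 × F9)) :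
    Matrix F9 F9 F :=
  (j3B F p.2.1.1.1 * (j3E F ω 0 ^ (p.2.1.2.1 : ℕ) * (j3A F ω p.2.1.2.2.1 * j3D F ω p.2.1.2.2.2))) *
    (gM ω p.1 * (ω ^ (p.2.2.1 : ℕ) • (j3B F p.2.2.2.1.1 * (j3E F ω 0 ^ (p.2.2.2.2.1 : ℕ) *
      (j3A F ω p.2.2.2.2.2.1 * j3D F ω p.2.2.2.2.2.2)))))

theorem pow_mod_three {M : Type*} [Monoid M] {x : M} (h : x ^ 3 = 1) (n : ℕ) :
    x ^ n = x ^ (n % 3) := by
  conv_lhs => rw [← Nat.div_add_mod n 3, pow_add, pow_mul, h, one_pow, one_mul]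

theorem inS_phi (H : Good ω) {x : Matrix F9 F9 F} (hx : InS ω x) : ∃ p, phi ω p = x := by
  obtain ⟨i, hi, y, z, ⟨r, u, k, a, w, hu, rfl⟩, ⟨r', u', k', a', w', hu', rfl⟩, rfl⟩ := hx
  refine ⟨(⟨i, hi⟩, (⟨u, hu⟩, ⟨k % 3, Nat.mod_lt _ (by norm_num)⟩, a, w),
    (⟨(r + r') % 3, Nat.mod_lt _ (by norm_num)⟩, ⟨u', hu'⟩, ⟨k' % 3, Nat.mod_lt _ (by norm_num)⟩,
      a', w')), ?_⟩
  unfold phi
  simp only
  rw [← pow_mod_three (relE3 H), ← pow_mod_three (relE3 H), ← pow_mod_three H.cube, pow_add,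
    mul_comm (ω ^ r)]
  simp only [mul_assoc, mul_smul_comm, smul_mul_assoc, smul_smul]

theorem card_threeJ3_le [Finite F] (H : Good ω) : Nat.card (threeJ3 F ω) ≤ 226748160 := by
  classical
  choose f hf using fun g : threeJ3 F ω => inS_phi H (inS_of_mem H g.2)
  have hinj : Function.Injective f := by
    intro g g' h
    apply Subtype.ext
    apply Units.ext
    rw [← hf g, ← hf g', h]
  have h1 := Nat.card_le_card_of_injective f hinj
  refine le_trans h1 (le_of_eq ?_)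
  have hU : Fintype.card U8 = 8 := by decide
  have h9 : Fintype.card F9 = 9 := by decide
  rw [Nat.card_eq_fintype_card]
  simp only [Fintype.card_prod, Fintype.card_fin, hU]
  rw [ZMod.card]

end

end Cfsg.Agent.J3.Upper
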