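import Cfsg.Agent.J3.Elts
import Cfsg.Agent.J3.Orbits
import Cfsg.Agent.J3.Upper

/-!
# `|3·J₃| = 150698880`
-/

set_option autoImplicit false

namespace Cfsg.Agent.J3.Order

open Cfsg.Spor Cfsg.Agent.J3.Core Cfsg.Agent.J3.Tab Cfsg.Agent.J3.Mono Cfsg.Agent.J3.Elts
open Cfsg.Agent.Lib.BitSet Cfsg.Agent.J3.Orbits Matrix

section
variable {F : Type*} [Field F] {ω : F}

/-- the action on column vectors -/
@[reducible] def vecAction (ω : F) : MulAction (threeJ3 F ω) (F9 → F) where
  smul g v := mat ω g *ᵥ v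
  one_smul v := by
    show mat ω 1 *ᵥ v = v
    rw [map_one, Matrix.one_mulVec]
  mul_smul g h v := by
    show mat ω (g * h) *ᵥ v = mat ω g *ᵥ (mat ω h *ᵥ v)
    rw [map_mul, Matrix.mulVec_mulVec]

/-- stabiliser of `e_0` -/
def stab (ω : F) : Subgroup (threeJ3 F ω) :=
  @MulAction.stabilizer (threeJ3 F ω) (F9 → F) _ (vecAction ω) (dec ω 1)

theorem mem_stab {g : threeJ3 F ω} : g ∈ stab ω ↔ mat ω g *ᵥ dec ω 1 = dec ω 1 :=
  @MulAction.mem_stabilizer_iff (threeJ3 F ω) (F9 → F) _ (vecAction ω) (dec ω 1) g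

theorem card_eq [Fintype F] (hF : Fintype.card F = 4) (H : Good ω) :
    Nat.card (threeJ3 F ω) = 69768 * Nat.card (stab ω) := by
  classical
  obtain ⟨S, -, hS, -, hpc, -⟩ := exists_orbit0 hF H
  have h1 : Nat.card (@MulAction.orbit (threeJ3 F ω) (F9 → F) (vecAction ω).toSMul (dec ω 1)) *
      Nat.card (stab ω) = Nat.card (threeJ3 F ω) := by
    rw [← Nat.card_prod]
    exact Nat.card_congr
      (@MulAction.orbitProdStabilizerEquivGroup (threeJ3 F ω) (F9 → F) _ (vecAction ω) (dec ω 1))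
  have h2 : @MulAction.orbit (threeJ3 F ω) (F9 → F) (vecAction ω).toSMul (dec ω 1) =
      dec ω '' (((Finset.range (2 ^ 18)).filter (fun n => S.testBit n = true) : Finset ℕ) :
        Set ℕ) := by
    ext v
    constructor
    · rintro ⟨g, rfl⟩
      obtain ⟨n, hn, e⟩ := exists_dec hF H (mat ω g *ᵥ dec ω 1)
      refine ⟨n, ?_, e⟩
      rw [Finset.mem_coe, Finset.mem_filter, Finset.mem_range]
      exact ⟨hn, (hS n hn).mpr ⟨g, g.2, e⟩⟩
    · rintro ⟨n, hn, rfl⟩
      rw [Finset.mem_coe, Finset.mem_filter, Finset.mem_range] at hn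
      obtain ⟨g, hg, e⟩ := (hS n hn.1).mp hn.2
      exact ⟨⟨g, hg⟩, e.symm⟩
  have h3 : Nat.card (@MulAction.orbit (threeJ3 F ω) (F9 → F) (vecAction ω).toSMul (dec ω 1)) =
      69768 := by
    rw [h2, Nat.card_coe_set_eq, Set.InjOn.ncard_image, Set.ncard_coe_finset,
      ← pc_eq_card, hpc]
    intro a ha b hb hab
    rw [Finset.mem_coe, Finset.mem_filter, Finset.mem_range] at ha hb
    exact dec_injOn H ha.1 hb.1 hab
  rw [← h1, h3]

/-- membership in the stabiliser from a table -/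
theorem mem_stab_of_rep {T : List ℕ} {g : threeJ3 F ω} (hg : RepG ω T g)
    (h : appT T 1 = 1) : g ∈ stab ω := by
  rw [mem_stab, hg.2 1 (by norm_num), h]

theorem tA_one : ∀ Z : F9, appT (tA Z) 1 = 1 := by decide +kernel
theorem tB_one : ∀ Z : F9, Z ≠ 0 → appT (tB Z) 1 = 1 := by decide +kernel
theorem tE_one : appT tE 1 = 1 := by decide +kernel
theorem tC_one : appT tC 1 = 1 := by decide +kernel

variable (G : Gens F ω)

theorem rA (H : Good ω) (Z : F9) : RepG ω (tA Z) (G.a Z) := by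
  unfold RepG; rw [G.ha]; exact repA H Z
theorem rD (H : Good ω) (Z : F9) : RepG ω (tD Z) (G.d Z) := by
  unfold RepG; rw [G.hd]; exact repD H Z
theorem rB (H : Good ω) (Z : F9) (hZ : Z ≠ 0) : RepG ω (tB Z) (G.b Z) := by
  unfold RepG; rw [G.hb Z hZ]; exact repB H Z hZ
theorem rE (H : Good ω) : RepG ω tE G.e := by
  unfold RepG; rw [G.he]; exact repE H
theorem rC (H : Good ω) : RepG ω tC G.c := by
  unfold RepG; rw [G.hc]; exact repC H

/-! #### 27 -/

theorem tA_inj : ∀ Z W : F9, (cols (tA Z)).getD (idx (0, 1)) 0 = (cols (tA W)).getD (idx (0, 1)) 0 →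
    (cols (tA Z)).getD (idx (1, 0)) 0 = (cols (tA W)).getD (idx (1, 0)) 0 → Z = W := by
  decide +kernel

/-- the group of all `A_Z` -/
def homA (H : Good ω) : Multiplicative F9 →* threeJ3 F ω where
  toFun Z := G.a Z.toAdd
  map_one' := by
    show G.a 0 = 1
    apply mat_injective
    rw [G.ha, map_one]
    have h1 := repS H 0 (by norm_num)
    rw [pow_zero, one_smul] at h1
    exact Rep.ext (repA H 0) h1 (by decide +kernel)
  map_mul' Z W := by
    show G.a (Z.toAdd + W.toAdd) = G.a Z.toAdd * G.a W.toAdd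
    apply mat_injective
    rw [map_mul, G.ha, G.ha, G.ha, relAA H]

theorem homA_apply (H : Good ω) (Z : Multiplicative F9) : homA G H Z = G.a Z.toAdd := rfl

theorem homA_injective (H : Good ω) : Function.Injective (homA G H) := by
  intro Z W h
  have h1 : RepG ω (tA Z.toAdd) (G.a W.toAdd) := by
    have := rA G H Z.toAdd
    rw [homA_apply, homA_apply] at h
    rwa [h] at this
  have h2 := rA G H W.toAdd
  have := tA_inj _ _ (h1.cols_eq H h2 (0, 1)) (h1.cols_eq H h2 (1, 0))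
  exact this

theorem tE_ne : ∀ Z : F9, ¬ ((cols (tA Z)).getD (idx (0, 1)) 0 = (cols tE).getD (idx (0, 1)) 0 ∧
    (cols (tA Z)).getD (idx (0, 2)) 0 = (cols tE).getD (idx (0, 2)) 0) := by
  decide +kernel

theorem card27 [Fintype F] (G : Gens F ω) (H : Good ω) : 27 ∣ Nat.card (stab ω) := by
  have hc : Nat.card (homA G H).range = 9 := by
    rw [← Nat.card_congr (MonoidHom.ofInjective (homA_injective G H)).toEquiv,
      Nat.card_eq_fintype_card]
    decide
  have h := mul_card_dvd (p := 3) (by norm_num) (homA G H).range (stab ω) ?_ G.e ?_ ?_ ?_ ?_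
  · rw [hc] at h
    exact h
  · rintro _ ⟨Z, rfl⟩
    exact mem_stab_of_rep (rA G H _) (tA_one _)
  · exact mem_stab_of_rep (rE G H) tE_one
  · rintro _ ⟨Z, rfl⟩
    refine ⟨Z, ?_⟩
    have h1 : G.a Z.toAdd * G.e = G.e * G.a Z.toAdd :=
      mat_injective (by rw [map_mul, map_mul, G.ha, G.he, relAE H])
    rw [homA_apply, ← h1, mul_inv_cancel_right]
  · rintro ⟨Z, hZ⟩
    have h1 := rA G H Z.toAdd
    rw [← homA_apply G H, hZ] at h1
    exact tE_ne _ ⟨h1.cols_eq H (rE G H) (0, 1), h1.cols_eq H (rE G H) (0, 2)⟩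
  · have : G.e ^ 3 = 1 := mat_injective (by
      rw [map_pow, G.he, map_one]; exact Cfsg.Agent.J3.Upper.relE3 H)
    rw [this]
    exact one_mem _

/-! #### 16 -/

/-- a generator of the group of all `B_Z` -/
def u0 : F9 := (1, 1)
theorem u0_ne : u0 ≠ 0 := by decide

theorem chkB8 : beqL (cols (powT (tB u0) 8)) (cols (tS 0)) = true := by decide +kernel
theorem chkB4 : (cols (powT (tB u0) 4)).getD (idx (0, 1)) 0 ≠ (cols (tS 0)).getD (idx (0, 1)) 0 := by
  decide +kernel

theorem orderOf_b (H : Good ω) : orderOf (G.b u0) = 8 := by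
  have h := orderOf_eq_prime_pow (p := 2) (n := 2) (x := G.b u0) ?_ ?_
  · exact h
  · intro h1
    have h2 := (rB G H u0 u0_ne).pow H 4
    rw [show (2 : ℕ) ^ 2 = 4 by norm_num] at h1
    rw [h1] at h2
    exact chkB4 (h2.cols_eq H (repG_one H) (0, 1))
  · exact ((rB G H u0 u0_ne).pow H 8).ext (repG_one H) (beqL_eq chkB8)

theorem exists_tB (H : Good ω) (n : ℕ) : ∃ v : F9, v ≠ 0 ∧ mat ω (G.b u0 ^ n) = j3B F v := by
  induction n with
  | zero =>
    refine ⟨F9.one, one_ne, ?_⟩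
    have h1 := repS H 0 (by norm_num)
    rw [pow_zero, one_smul] at h1
    rw [pow_zero, map_one]
    exact (Rep.ext (repB H _ one_ne) h1 (by decide +kernel)).symm
  | succ n ih =>
    obtain ⟨v, hv, e⟩ := ih
    exact ⟨F9.mul u0 v, mul_ne _ _ u0_ne hv,
      by rw [pow_succ', map_mul, e, G.hb u0 u0_ne, relBB H _ _ u0_ne hv]⟩

theorem tC_ne : ∀ Z : F9, Z ≠ 0 →
    (cols (tB Z)).getD (idx (0, 1)) 0 ≠ (cols tC).getD (idx (0, 1)) 0 := by
  decide +kernel

theorem chkBinv : beqL (compT tC (cols (tB u0))) (compT (powT (tB u0) 7) (cols tC)) = true := by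
  decide +kernel
theorem chkCC : beqL (compT tC (cols tC)) (cols (tS 0)) = true := by decide +kernel

theorem card16 [Fintype F] (G : Gens F ω) (H : Good ω) : 16 ∣ Nat.card (stab ω) := by
  have hc : Nat.card (Subgroup.zpowers (G.b u0)) = 8 := by
    rw [Nat.card_zpowers, orderOf_b G H]
  have h := mul_card_dvd (p := 2) (by norm_num) (Subgroup.zpowers (G.b u0)) (stab ω) ?_ G.c
    ?_ ?_ ?_ ?_
  · rw [hc] at h
    exact h
  · rw [Subgroup.zpowers_le]
    exact mem_stab_of_rep (rB G H _ u0_ne) (tB_one _ u0_ne)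
  · exact mem_stab_of_rep (rC G H) tC_one
  · have h1 : G.c * G.b u0 = G.b u0 ^ 7 * G.c :=
      ((rC G H).mul (rB G H _ u0_ne)).ext (((rB G H _ u0_ne).pow H 7).mul (rC G H))
        (by rw [cols_compT, cols_compT]; exact beqL_eq chkBinv)
    intro q hq
    obtain ⟨k, rfl⟩ := Subgroup.mem_zpowers_iff.mp hq
    have h2 : G.c * G.b u0 ^ k * G.c⁻¹ = (G.c * G.b u0 * G.c⁻¹) ^ k := by
      rw [conj_zpow]
    rw [h2, h1, mul_inv_cancel_right]
    exact Subgroup.zpow_mem _ (Subgroup.pow_mem _ (Subgroup.mem_zpowers _) 7) k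
  · intro hmem
    rw [← mem_powers_iff_mem_zpowers] at hmem
    obtain ⟨n, hn⟩ := hmem
    obtain ⟨v, hv, e⟩ := exists_tB G H n
    have h1 : RepG ω (tB v) G.c := by
      unfold RepG
      rw [← hn]
      show Rep ω (tB v) (mat ω (G.b u0 ^ n))
      rw [e]
      exact repB H v hv
    exact tC_ne v hv (h1.cols_eq H (rC G H) (0, 1))
  · have : G.c ^ 2 = 1 := by
      rw [pow_two]
      exact ((rC G H).mul (rC G H)).ext (repG_one H) (by rw [cols_compT]; exact beqL_eq chkCC)
    rw [this]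
    exact one_mem _

/-! #### 5 -/

/-- table of an element of order 5 -/
def t5 : List ℕ := compT tC (compT (compT (tA (0, 1)) (tD (2, 0))) (tB (2, 2)))

/-- an element of order 5 -/
def x5 : threeJ3 F ω := G.c * (G.a (0, 1) * G.d (2, 0) * G.b (2, 2))

theorem r5 (H : Good ω) : RepG ω t5 (x5 G) :=
  (rC G H).mul (((rA G H _).mul (rD G H _)).mul (rB G H _ (by decide)))

theorem chk5 : beqL (cols (powT t5 5)) (cols (tS 0)) = true := by decide +kernel
theorem chk5' : (cols t5).getD (idx (0, 0)) 0 ≠ (cols (tS 0)).getD (idx (0, 0)) 0 := by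
  decide +kernel

theorem x5_pow (H : Good ω) : x5 G ^ 5 = 1 :=
  ((r5 G H).pow H 5).ext (repG_one H) (beqL_eq chk5)

theorem card5 [Fintype F] (G : Gens F ω) (H : Good ω) : 5 ∣ Nat.card (threeJ3 F ω) := by
  have hp : Fact (Nat.Prime 5) := ⟨by norm_num⟩
  have h : orderOf (x5 G) = 5 := by
    refine orderOf_eq_prime (x5_pow G H) ?_
    intro h1
    have h2 := r5 G H
    rw [h1] at h2
    exact chk5' (h2.cols_eq H (repG_one H) (0, 0))
  rw [← h]
  exact orderOf_dvd_natCard _

end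

theorem card_threeJ3 {F : Type*} [Field F] [Fintype F] (hF : Fintype.card F = 4) {ω : F}
    (H : Good ω) : Nat.card (threeJ3 F ω) = 150698880 := by
  obtain ⟨G⟩ := exists_gens hF H
  have h1 := card_eq hF H
  have h27 := card27 G H
  have h16 := card16 G H
  have h5 := card5 G H
  have hle := Cfsg.Agent.J3.Upper.card_threeJ3_le H
  have h432 : 432 ∣ Nat.card (stab ω) := by
    have : Nat.Coprime 27 16 := by norm_num
    have := this.mul_dvd_of_dvd_of_dvd h27 h16
    simpa using this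
  have h2 : 69768 * 432 ∣ Nat.card (threeJ3 F ω) := by
    rw [h1]; exact Nat.mul_dvd_mul_left _ h432
  have h3 : 5 * (69768 * 432) ∣ Nat.card (threeJ3 F ω) := by
    have : Nat.Coprime 5 (69768 * 432) := by norm_num
    exact this.mul_dvd_of_dvd_of_dvd h5 h2
  have hpos : 0 < Nat.card (threeJ3 F ω) := Nat.card_pos
  clear h1 h27 h16 h5 h432 h2
  revert hle h3 hpos
  generalize Nat.card (threeJ3 F ω) = c
  rintro hle ⟨m, hm⟩ hpos
  norm_num at hm
  have h1 : 0 < m := by
    rcases Nat.eq_zero_or_pos m with h | h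
    · subst h; omega
    · exact h
  have h2 : m < 2 := by
    by_contra h
    have : 2 ≤ m := by omega
    have := Nat.mul_le_mul_left 150698880 this
    omega
  have h3 : m = 1 := by omega
  rw [hm, h3]

end Cfsg.Agent.J3.Order
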