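import Cfsg.Prelude.Def_Spor_J3
import Cfsg.Agent.Lib.BitSet

/-!
# Kernel-fast model of the generators of `3·J₃` on `F_4^9`

Vectors of `F^9` (`F` a field with 4 elements) are written as 18-bit naturals, two bits per
coordinate: `dec ω n z = val ω (n >>> (2 * idx z))`, where `val ω` sends the codes 0, 1, 2, 3 to
`0, 1, ω, 1 + ω = ω²`. Addition of vectors is `^^^`.
-/

set_option autoImplicit false

namespace Cfsg.Agent.J3.Core

open Cfsg.Spor Cfsg.Agent.Lib.BitSet Matrix

/-- elements of `F_4` from 2-bit codes -/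
def val {F : Type*} [Field F] (ω : F) (c : ℕ) : F :=
  (if c.testBit 0 = true then 1 else 0) + (if c.testBit 1 = true then ω else 0)

/-- index (0..8) of an element of `F9` -/
def idx (z : F9) : ℕ := 3 * z.1.val + z.2.val

/-- the vector with code `n` -/
def dec {F : Type*} [Field F] (ω : F) (n : ℕ) : F9 → F := fun z => val ω (n >>> (2 * idx z))

/-- the matrix with code `M` (row, column) -/
def matF {F : Type*} [Field F] (ω : F) (M : F9 → F9 → ℕ) : Matrix F9 F9 F :=
  Matrix.of fun w z => val ω (M w z)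

/-- multiplication by `ω` on codes -/
def mulw : ℕ → ℕ
  | 1 => 2
  | 2 => 3
  | 3 => 1
  | _ => 0

/-- what we use about `(F, ω)` -/
structure Good {F : Type*} [Field F] (ω : F) : Prop where
  two : (1 : F) + 1 = 0
  om : ω ^ 2 + ω + 1 = 0

section
variable {F : Type*} [Field F] {ω : F}

theorem good_of_card [Fintype F] (hF : Fintype.card F = 4) (hω : ω ^ 2 + ω + 1 = 0) :
    Good ω := by
  refine ⟨?_, hω⟩
  have h : ((Fintype.card F : ℕ) : F) = 0 := Nat.cast_card_eq_zero F
  rw [hF] at h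
  have h4 : ((1 : F) + 1) * (1 + 1) = 0 := by
    have : ((4 : ℕ) : F) = (1 + 1) * (1 + 1) := by push_cast; ring
    rw [← this]; exact h
  rcases mul_eq_zero.mp h4 with h | h <;> exact h

namespace Good

theorem add_self (H : Good ω) (x : F) : x + x = 0 := by
  have : x + x = x * (1 + 1) := by ring
  rw [this, H.two, mul_zero]

theorem sq (H : Good ω) : ω ^ 2 = 1 + ω := by
  have h1 := H.om
  have h2 := H.add_self ω
  have h3 := H.two
  linear_combination h1 - h2 - h3

theorem mul_self (H : Good ω) : ω * ω = 1 + ω := by rw [← H.sq]; ring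

theorem ne_zero (H : Good ω) : ω ≠ 0 := by
  intro h
  have := H.om
  rw [h] at this
  simp at this

theorem ne_one (H : Good ω) : ω ≠ 1 := by
  intro h
  have h1 := H.om
  have h2 := H.two
  rw [h] at h1
  have : (1 : F) = 0 := by linear_combination h1 - h2
  exact one_ne_zero this

theorem one_add_ne_zero (H : Good ω) : 1 + ω ≠ 0 := by
  rw [← H.sq]
  exact pow_ne_zero 2 H.ne_zero

theorem cube (H : Good ω) : ω ^ 3 = 1 := by
  have h1 := H.om
  linear_combination (ω - 1) * h1

end Good

/-! ### val -/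

theorem val_zero : val ω 0 = 0 := by simp [val]
theorem val_one : val ω 1 = 1 := by
  have h0 : Nat.testBit 1 0 = true := by decide
  have h1 : Nat.testBit 1 1 = false := by decide
  simp [val, h1]
theorem val_two : val ω 2 = ω := by
  have h0 : Nat.testBit 2 0 = false := by decide
  have h1 : Nat.testBit 2 1 = true := by decide
  simp [val, h0, h1]
theorem val_three : val ω 3 = 1 + ω := by
  have h0 : Nat.testBit 3 0 = true := by decide
  have h1 : Nat.testBit 3 1 = true := by decide
  simp [val, h0, h1]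

theorem val_mod (c : ℕ) : val ω (c % 4) = val ω c := by
  have h0 : (c % 4).testBit 0 = c.testBit 0 := by
    rw [show (4 : ℕ) = 2 ^ 2 from rfl, Nat.testBit_mod_two_pow]; simp
  have h1 : (c % 4).testBit 1 = c.testBit 1 := by
    rw [show (4 : ℕ) = 2 ^ 2 from rfl, Nat.testBit_mod_two_pow]; simp
  unfold val
  rw [h0, h1]

theorem val_xor (H : Good ω) (a b : ℕ) : val ω (a ^^^ b) = val ω a + val ω b := by
  have h2 := H.two
  have h3 := H.add_self ω
  unfold val
  rw [Nat.testBit_xor, Nat.testBit_xor]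
  cases a.testBit 0 <;> cases b.testBit 0 <;> cases a.testBit 1 <;> cases b.testBit 1 <;>
    simp only [Bool.xor_self, Bool.true_xor, Bool.false_xor, Bool.not_false,
      if_true, if_false, Bool.false_eq_true, add_zero, zero_add] <;>
    first
      | rfl
      | linear_combination (-1 : F) * h2
      | linear_combination (-1 : F) * h3
      | linear_combination (-1 : F) * h2 - h3
      | ring

theorem val_mulw (H : Good ω) (c : ℕ) (hc : c < 4) : val ω (mulw c) = val ω c * ω := by
  have h := H.mul_self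
  have h2 := H.add_self ω
  interval_cases c
  · show val ω 0 = _
    rw [val_zero, zero_mul]
  · show val ω 2 = _
    rw [val_two, val_one, one_mul]
  · show val ω 3 = _
    rw [val_three, val_two, h]
  · show val ω 1 = _
    rw [val_three, val_one]
    linear_combination (-1 : F) * h - h2

theorem val_injOn (H : Good ω) {a b : ℕ} (h : val ω a = val ω b) :
    a.testBit 0 = b.testBit 0 ∧ a.testBit 1 = b.testBit 1 := by
  have h0 := H.ne_zero
  have h1 := H.ne_one
  have h2 := H.one_add_ne_zero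
  have h3 := H.two
  have h4 := H.add_self ω
  unfold val at h
  revert h
  cases a.testBit 0 <;> cases b.testBit 0 <;> cases a.testBit 1 <;> cases b.testBit 1 <;>
    simp only [if_true, if_false, Bool.false_eq_true, add_zero, zero_add, and_self, and_true,
      implies_true, reduceCtorEq, and_false, imp_false]
  all_goals first
    | exact fun h => h0 h
    | exact fun h => h0 h.symm
    | exact fun h => h1 h
    | exact fun h => h1 h.symm
    | exact fun h => h2 h
    | exact fun h => h2 h.symm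
    | exact fun h => one_ne_zero h
    | exact fun h => one_ne_zero h.symm
    | (intro h; exact h0 (by linear_combination h))
    | (intro h; exact h0 (by linear_combination -h))
    | (intro h; exact one_ne_zero (α := F) (by linear_combination h))
    | (intro h; exact one_ne_zero (α := F) (by linear_combination -h))

/-! ### dec -/

theorem dec_apply (n : ℕ) (z : F9) : dec ω n z = val ω (n >>> (2 * idx z)) := rfl

theorem dec_xor (H : Good ω) (a b : ℕ) : dec ω (a ^^^ b) = dec ω a + dec ω b := by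
  funext z
  rw [Pi.add_apply, dec_apply, dec_apply, dec_apply, Nat.shiftRight_xor_distrib, val_xor H]

theorem dec_zero : dec ω 0 = 0 := by
  funext z
  rw [dec_apply, Nat.zero_shiftRight, val_zero]; rfl

theorem exists_idx (i : ℕ) (hi : i < 18) : ∃ z : F9, i = 2 * idx z ∨ i = 2 * idx z + 1 := by
  revert i
  decide

theorem dec_injOn (H : Good ω) {a b : ℕ} (ha : a < 2 ^ 18) (hb : b < 2 ^ 18)
    (h : dec ω a = dec ω b) : a = b := by
  apply Nat.eq_of_testBit_eq
  intro i
  by_cases hi : i < 18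
  · obtain ⟨z, hz⟩ := exists_idx i hi
    have h1 := congrFun h z
    rw [dec_apply, dec_apply] at h1
    have h2 := val_injOn H h1
    rw [Nat.testBit_shiftRight, Nat.testBit_shiftRight, Nat.testBit_shiftRight,
      Nat.testBit_shiftRight] at h2
    rcases hz with rfl | rfl
    · exact h2.1
    · exact h2.2
  · have h1 : (2 : ℕ) ^ 18 ≤ 2 ^ i := Nat.pow_le_pow_right (by norm_num) (by omega)
    rw [Nat.testBit_lt_two_pow (lt_of_lt_of_le ha h1), Nat.testBit_lt_two_pow (lt_of_lt_of_le hb h1)]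

theorem two_pow_shift : ∀ z w : F9,
    (2 ^ (2 * idx z) >>> (2 * idx w)) % 4 = (if w = z then 1 else 0) ∧
    (2 ^ (2 * idx z + 1) >>> (2 * idx w)) % 4 = (if w = z then 2 else 0) := by
  decide

theorem dec_two_pow (z : F9) : dec ω (2 ^ (2 * idx z)) = Pi.single z 1 := by
  funext w
  rw [dec_apply, ← val_mod, (two_pow_shift z w).1, Pi.single_apply]
  split
  · exact val_one
  · exact val_zero

theorem dec_two_pow_succ (z : F9) : dec ω (2 ^ (2 * idx z + 1)) = Pi.single z ω := by
  funext w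
  rw [dec_apply, ← val_mod, (two_pow_shift z w).2, Pi.single_apply]
  split
  · exact val_two
  · exact val_zero

/-- every vector is `dec ω n` for some `n < 2^18` -/
theorem exists_dec [Fintype F] (hF : Fintype.card F = 4) (H : Good ω) (v : F9 → F) :
    ∃ n < 2 ^ 18, dec ω n = v := by
  classical
  have hinj : Function.Injective (fun n : Fin (2 ^ 18) => dec ω n.val) := by
    intro a b hab
    exact Fin.ext (dec_injOn H a.isLt b.isLt hab)
  have hcard : Fintype.card (Fin (2 ^ 18)) = Fintype.card (F9 → F) := by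
    rw [Fintype.card_fin, Fintype.card_fun, hF]
    have : Fintype.card F9 = 9 := by decide
    rw [this]
    norm_num
  obtain ⟨n, hn⟩ := ((Fintype.bijective_iff_injective_and_card _).mpr ⟨hinj, hcard⟩).2 v
  exact ⟨n.val, n.isLt, hn⟩

/-! ### matrices given by a list of elementary transvections -/

/-- `l` is the code of the matrix `M` -/
def chk (l : List ℕ) (M : F9 → F9 → ℕ) : Bool :=
  decide (∀ z w : F9, M w z < 4 ∧ (act l (2 ^ (2 * idx z)) >>> (2 * idx w)) % 4 = M w z ∧
    (act l (2 ^ (2 * idx z + 1)) >>> (2 * idx w)) % 4 = mulw (M w z))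

theorem act_zero (l : List ℕ) : act l 0 = 0 := by
  have h := act_xor l 0 0
  rw [Nat.xor_self, Nat.xor_self] at h
  exact h

theorem matF_mulVec (H : Good ω) {l : List ℕ} {M : F9 → F9 → ℕ} (hc : chk l M = true)
    (n : ℕ) (hn : n < 2 ^ 18) : matF ω M *ᵥ dec ω n = dec ω (act l n) := by
  have hc' := of_decide_eq_true hc
  refine xor_induction (k := 18) (P := fun n => matF ω M *ᵥ dec ω n = dec ω (act l n))
    ?_ ?_ ?_ n hn
  · show matF ω M *ᵥ dec ω 0 = dec ω (act l 0)
    rw [act_zero, dec_zero, Matrix.mulVec_zero]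
  · intro i hi
    obtain ⟨z, hz⟩ := exists_idx i hi
    rcases hz with rfl | rfl
    · show matF ω M *ᵥ dec ω (2 ^ (2 * idx z)) = dec ω (act l (2 ^ (2 * idx z)))
      rw [dec_two_pow]
      funext w
      obtain ⟨h0, h1, h2⟩ := hc' z w
      rw [Matrix.mulVec_single_one, Matrix.col_apply, dec_apply, ← val_mod (_ >>> _), h1]
      rfl
    · show matF ω M *ᵥ dec ω (2 ^ (2 * idx z + 1)) = dec ω (act l (2 ^ (2 * idx z + 1)))
      rw [dec_two_pow_succ]
      funext w
      obtain ⟨h0, h1, h2⟩ := hc' z w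
      rw [Matrix.mulVec_single, dec_apply, ← val_mod (_ >>> _), h2, val_mulw H _ h0]
      show MulOpposite.op ω • (val ω (M w z)) = _
      rw [MulOpposite.smul_eq_mul_unop]
      rfl
  · intro a _ b _ ha hb
    show matF ω M *ᵥ dec ω (a ^^^ b) = dec ω (act l (a ^^^ b))
    have ha' : matF ω M *ᵥ dec ω a = dec ω (act l a) := ha
    have hb' : matF ω M *ᵥ dec ω b = dec ω (act l b) := hb
    rw [act_xor, dec_xor H, dec_xor H, Matrix.mulVec_add, ha', hb']

end

/-! ### the generators -/

/-- code of `j3A` -/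
def cA (Z w z : F9) : ℕ := if w = z then (Z.1 * z.1 + Z.2 * z.2).val + 1 else 0
/-- code of `j3E` -/
def cE (Z w z : F9) : ℕ := if w = z then ((Z.1 - z.1) ^ 2 + (Z.2 - z.2) ^ 2).val + 1 else 0
/-- code of `j3Lam` -/
def cLam (Z z : F9) : ℕ :=
  if z = 0 then 1
  else if F9.div Z z = F9.I - F9.one then 2
  else if F9.div Z z = -F9.I - F9.one then 3
  else 1
/-- code of `j3D` -/
def cD (Z w z : F9) : ℕ := if w = z + Z then cLam Z z else 0
/-- code of `j3B` -/
def cB (Z w z : F9) : ℕ := if w = F9.mul Z z then 1 else 0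
/-- code of `j3C` -/
def cC (Z w z : F9) : ℕ :=
  if z = 0 then (if w = 0 then 1 else 0)
  else if w = -F9.div Z z ∨ w = F9.mul F9.I (F9.div Z z) ∨ w = -F9.mul F9.I (F9.div Z z) then 1
  else 0

section
variable {F : Type*} [Field F] {ω : F}

theorem omegaPow_eq (H : Good ω) (n : ZMod 3) : omegaPow F ω n = val ω (n.val + 1) := by
  have h := H.sq
  fin_cases n
  · show ω ^ 0 = val ω 1
    rw [val_one, pow_zero]
  · show ω ^ 1 = val ω 2
    rw [val_two, pow_one]
  · show ω ^ 2 = val ω 3
    rw [val_three, h]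

theorem j3A_eq (H : Good ω) (Z : F9) : j3A F ω Z = matF ω (cA Z) := by
  ext w z
  unfold j3A matF cA
  rw [Matrix.diagonal_apply, Matrix.of_apply]
  by_cases h : w = z
  · subst h
    rw [if_pos rfl, if_pos rfl, omegaPow_eq H]
  · rw [if_neg h, if_neg h, val_zero]

theorem j3E_eq (H : Good ω) (Z : F9) : j3E F ω Z = matF ω (cE Z) := by
  ext w z
  unfold j3E matF cE
  rw [Matrix.diagonal_apply, Matrix.of_apply]
  by_cases h : w = z
  · subst h
    rw [if_pos rfl, if_pos rfl, omegaPow_eq H]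
  · rw [if_neg h, if_neg h, val_zero]

theorem j3Lam_eq (H : Good ω) (Z z : F9) : j3Lam F ω Z z = val ω (cLam Z z) := by
  unfold j3Lam cLam
  split_ifs
  · rw [val_one]
  · rw [val_two]
  · rw [val_three, H.sq]
  · rw [val_one]

theorem j3D_eq (H : Good ω) (Z : F9) : j3D F ω Z = matF ω (cD Z) := by
  ext w z
  unfold j3D matF cD
  rw [Matrix.of_apply, Matrix.of_apply]
  split_ifs
  · rw [j3Lam_eq H]
  · rw [val_zero]

theorem j3B_eq (Z : F9) : j3B F Z = matF ω (cB Z) := by
  ext w z
  unfold j3B matF cB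
  rw [Matrix.of_apply, Matrix.of_apply]
  split_ifs
  · rw [val_one]
  · rw [val_zero]

theorem j3C_eq (Z : F9) : j3C F Z = matF ω (cC Z) := by
  ext w z
  unfold j3C matF cC
  rw [Matrix.of_apply, Matrix.of_apply]
  split_ifs
  · rw [val_one]
  · rw [val_zero]
  · rw [val_one]
  · rw [val_zero]

end

def opsAdata : List (List ℕ) :=
  [[],
   [560, 529, 463, 494, 362, 331, 265, 296, 164, 133, 67, 98],
   [529, 560, 494, 463, 331, 362, 296, 265, 133, 164, 98, 67],
   [560, 529, 494, 463, 428, 397, 331, 362, 265, 296, 199, 230],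
   [529, 560, 428, 397, 296, 265, 199, 230, 164, 133, 67, 98],
   [463, 494, 428, 397, 362, 331, 199, 230, 133, 164, 98, 67],
   [529, 560, 463, 494, 397, 428, 362, 331, 296, 265, 230, 199],
   [494, 463, 397, 428, 331, 362, 230, 199, 164, 133, 67, 98],
   [560, 529, 397, 428, 265, 296, 230, 199, 133, 164, 98, 67]]

def opsEdata : List (List ℕ) :=
  [[560, 529, 494, 463, 397, 428, 362, 331, 296, 265, 199, 230, 133, 164, 67, 98],
   [560, 529, 463, 494, 428, 397, 362, 331, 265, 296, 230, 199, 133, 164, 1, 32],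
   [529, 560, 494, 463, 428, 397, 331, 362, 296, 265, 230, 199, 67, 98, 1, 32],
   [560, 529, 494, 463, 397, 428, 331, 362, 265, 296, 164, 133, 98, 67, 1, 32],
   [560, 529, 463, 494, 428, 397, 331, 362, 199, 230, 164, 133, 67, 98, 32, 1],
   [529, 560, 494, 463, 428, 397, 265, 296, 199, 230, 133, 164, 98, 67, 32, 1],
   [529, 560, 463, 494, 362, 331, 296, 265, 199, 230, 164, 133, 98, 67, 1, 32],
   [529, 560, 397, 428, 362, 331, 265, 296, 230, 199, 164, 133, 67, 98, 32, 1],
   [463, 494, 397, 428, 331, 362, 296, 265, 230, 199, 133, 164, 98, 67, 32, 1]]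

def opsDdata : List (List ℕ) :=
  [[],
   [560, 559, 557, 556, 529, 526, 524, 560, 496, 494, 527, 465, 558, 431, 493, 398, 460, 361, 360, 359, 329, 326, 299, 296, 361, 267, 266, 328, 233, 295, 200, 262, 163, 161, 130, 128, 101, 163, 68, 130, 35, 97, 2, 64],
   [560, 559, 557, 529, 527, 526, 525, 524, 497, 493, 559, 464, 460, 526, 433, 557, 400, 524, 361, 360, 359, 358, 331, 329, 327, 362, 299, 295, 361, 266, 262, 328, 235, 359, 202, 326, 163, 161, 130, 128, 101, 97, 163, 68, 64, 130, 37, 161, 4, 128],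
   [555, 554, 549, 523, 516, 494, 489, 483, 482, 463, 456, 450, 494, 423, 417, 390, 384, 369, 362, 555, 337, 336, 522, 302, 296, 457, 271, 488, 237, 423, 204, 390, 171, 357, 138, 324, 105, 291, 72, 258, 39, 225, 6, 192],
   [553, 545, 520, 512, 494, 487, 486, 485, 463, 455, 452, 494, 428, 427, 419, 397, 395, 394, 387, 386, 365, 427, 332, 394, 305, 553, 272, 520, 239, 487, 206, 454, 166, 164, 197, 135, 228, 107, 355, 74, 322, 41, 289, 8, 256],
   [551, 547, 546, 518, 515, 491, 481, 458, 448, 425, 424, 421, 420, 397, 393, 389, 428, 367, 491, 334, 458, 301, 425, 268, 392, 241, 551, 208, 518, 169, 293, 136, 260, 103, 98, 227, 71, 70, 194, 43, 353, 10, 320],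
   [555, 554, 549, 548, 529, 523, 517, 560, 494, 489, 483, 463, 457, 456, 451, 450, 423, 417, 390, 384, 369, 357, 555, 336, 324, 522, 303, 291, 489, 270, 258, 456, 237, 225, 423, 204, 192, 390, 177, 549, 144, 516, 111, 483, 78, 450, 45, 417, 12, 384],
   [560, 551, 547, 546, 529, 518, 515, 560, 491, 481, 458, 448, 425, 421, 420, 392, 389, 367, 353, 491, 334, 320, 458, 301, 293, 292, 425, 268, 261, 392, 240, 230, 226, 519, 209, 195, 550, 173, 164, 421, 141, 140, 388, 113, 547, 80, 514, 47, 481, 14, 448],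
   [553, 545, 520, 512, 487, 486, 485, 455, 452, 428, 427, 426, 419, 397, 394, 386, 428, 364, 355, 354, 395, 333, 322, 426, 305, 289, 553, 272, 256, 520, 239, 230, 229, 487, 207, 206, 197, 196, 454, 175, 485, 142, 452, 108, 98, 387, 77, 418, 49, 545, 16, 512]]

def opsBdata : List (List ℕ) :=
  [[],
   [559, 555, 553, 526, 522, 520, 497, 559, 464, 526, 423, 421, 419, 390, 388, 386, 367, 361, 491, 334, 328, 458, 303, 489, 270, 456, 237, 227, 423, 204, 194, 390, 167, 229, 134, 196, 109, 419, 76, 386],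
   [559, 555, 553, 526, 522, 520, 497, 491, 489, 559, 464, 458, 456, 526, 423, 421, 419, 390, 388, 386, 369, 555, 336, 522, 299, 361, 266, 328, 237, 229, 423, 204, 196, 390, 173, 421, 140, 388, 103, 227, 70, 194],
   [],
   [559, 557, 555, 553, 551, 549, 547, 526, 524, 522, 520, 518, 516, 514, 497, 493, 491, 489, 487, 485, 559, 464, 460, 458, 456, 454, 452, 526, 433, 557, 400, 524, 365, 427, 332, 394, 299, 293, 361, 266, 260, 328, 233, 295, 200, 262, 171, 357, 138, 324, 111, 483, 78, 450],
   [559, 557, 555, 553, 551, 549, 547, 526, 524, 522, 520, 518, 516, 514, 497, 485, 559, 464, 452, 526, 431, 493, 398, 460, 365, 361, 355, 427, 332, 328, 322, 394, 301, 425, 268, 392, 235, 359, 202, 326, 177, 549, 144, 516, 105, 291, 72, 258],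
   [553, 520, 491, 458, 423, 390, 367, 491, 334, 458, 305, 553, 272, 520, 237, 423, 204, 390, 163, 130, 101, 163, 68, 130],
   [559, 557, 555, 553, 551, 549, 547, 526, 524, 522, 520, 518, 516, 514, 497, 483, 559, 464, 450, 526, 431, 427, 425, 423, 421, 493, 398, 394, 392, 390, 388, 460, 367, 361, 359, 357, 491, 334, 328, 326, 324, 458, 303, 295, 489, 270, 262, 456, 239, 487, 206, 454, 169, 293, 136, 260, 113, 547, 80, 514],
   [559, 557, 555, 553, 551, 549, 547, 526, 524, 522, 520, 518, 516, 514, 497, 493, 491, 489, 487, 483, 559, 464, 460, 458, 456, 454, 450, 526, 433, 427, 425, 423, 419, 557, 400, 394, 392, 390, 386, 524, 369, 359, 555, 336, 326, 522, 299, 291, 361, 266, 258, 328, 241, 551, 208, 518, 175, 485, 142, 452, 107, 355, 74, 322]]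

def opsCdata : List (List ℕ) :=
  [[],
   [559, 555, 526, 522, 497, 489, 464, 456, 423, 419, 390, 386, 369, 361, 336, 328, 303, 299, 270, 266, 237, 204, 173, 167, 163, 229, 140, 134, 130, 196, 109, 101, 76, 68],
   [555, 522, 497, 491, 489, 559, 464, 458, 456, 526, 423, 421, 390, 388, 369, 336, 305, 303, 299, 361, 272, 270, 266, 328, 229, 196, 173, 167, 163, 229, 140, 134, 130, 196, 103, 101, 70, 68],
   [559, 553, 526, 520, 497, 464, 423, 390, 369, 367, 361, 491, 336, 334, 328, 458, 305, 299, 272, 266, 237, 229, 227, 423, 204, 196, 194, 390, 173, 167, 140, 134, 109, 103, 76, 70],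
   [559, 555, 551, 549, 547, 526, 522, 518, 516, 514, 493, 491, 489, 487, 483, 460, 458, 456, 454, 450, 431, 423, 419, 493, 398, 390, 386, 460, 369, 367, 365, 359, 336, 334, 332, 326, 301, 299, 295, 291, 268, 266, 262, 258, 241, 229, 227, 551, 208, 196, 194, 518, 175, 171, 163, 357, 142, 138, 130, 324, 113, 111, 105, 291, 80, 78, 72, 258],
   [557, 555, 553, 551, 549, 524, 522, 520, 518, 516, 497, 493, 491, 483, 464, 460, 458, 450, 433, 423, 421, 557, 400, 390, 388, 524, 369, 367, 361, 357, 336, 334, 328, 324, 305, 303, 301, 295, 272, 270, 268, 262, 239, 229, 227, 487, 206, 196, 194, 454, 177, 175, 171, 357, 144, 142, 138, 324, 111, 107, 105, 291, 78, 74, 72, 258],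
   [555, 553, 522, 520, 491, 489, 458, 456, 421, 419, 388, 386, 369, 367, 336, 334, 305, 303, 272, 270, 229, 227, 196, 194, 163, 130, 109, 103, 101, 163, 76, 70, 68, 130],
   [559, 557, 553, 551, 547, 526, 524, 520, 518, 514, 497, 491, 487, 485, 464, 458, 454, 452, 433, 423, 419, 557, 400, 390, 386, 524, 365, 361, 359, 357, 355, 332, 328, 326, 324, 322, 303, 301, 295, 291, 270, 268, 262, 258, 241, 239, 229, 487, 208, 206, 196, 454, 177, 169, 163, 293, 144, 136, 130, 260, 113, 111, 107, 355, 80, 78, 74, 322],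
   [559, 557, 555, 549, 547, 526, 524, 522, 516, 514, 493, 491, 489, 487, 485, 460, 458, 456, 454, 452, 433, 421, 419, 557, 400, 388, 386, 524, 369, 365, 361, 359, 357, 336, 332, 328, 326, 324, 303, 299, 295, 270, 266, 262, 241, 239, 227, 487, 208, 206, 194, 454, 175, 171, 163, 357, 142, 138, 130, 324, 113, 107, 105, 291, 80, 74, 72, 258]]

/-- transvection word of `j3A Z` -/
def opsA (Z : F9) : List ℕ := opsAdata.getD (idx Z) []
/-- transvection word of `j3E Z` -/
def opsE (Z : F9) : List ℕ := opsEdata.getD (idx Z) []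
/-- transvection word of `j3D Z` -/
def opsD (Z : F9) : List ℕ := opsDdata.getD (idx Z) []
/-- transvection word of `j3B Z` (`Z ≠ 0`) -/
def opsB (Z : F9) : List ℕ := opsBdata.getD (idx Z) []
/-- transvection word of `j3C Z` (`Z ≠ 0`) -/
def opsC (Z : F9) : List ℕ := opsCdata.getD (idx Z) []

/-- words of all generators -/
def allOps : List (List ℕ) := opsAdata ++ (opsEdata ++ (opsDdata ++ (opsBdata ++ opsCdata)))

theorem allOps_ok : ∀ l ∈ allOps, okOps 18 l = true := by
  decide +kernel

theorem chkA : ∀ Z : F9, chk (opsA Z) (cA Z) = true := by decide +kernel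
theorem chkE : ∀ Z : F9, chk (opsE Z) (cE Z) = true := by decide +kernel
theorem chkD : ∀ Z : F9, chk (opsD Z) (cD Z) = true := by decide +kernel
theorem chkB : ∀ Z : F9, Z ≠ 0 → chk (opsB Z) (cB Z) = true := by decide +kernel
theorem chkC : ∀ Z : F9, Z ≠ 0 → chk (opsC Z) (cC Z) = true := by decide +kernel

theorem idx_lt (Z : F9) : idx Z < 9 := by revert Z; decide

theorem getD_mem {α : Type*} (l : List α) (d : α) (i : ℕ) (h : i < l.length) : l.getD i d ∈ l := by
  rw [List.getD_eq_getElem _ _ h]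
  exact List.getElem_mem h

theorem opsA_mem (Z : F9) : opsA Z ∈ allOps :=
  List.mem_append_left _ (getD_mem _ _ _ (idx_lt Z))
theorem opsE_mem (Z : F9) : opsE Z ∈ allOps :=
  List.mem_append_right _ (List.mem_append_left _ (getD_mem _ _ _ (idx_lt Z)))
theorem opsD_mem (Z : F9) : opsD Z ∈ allOps :=
  List.mem_append_right _ (List.mem_append_right _
    (List.mem_append_left _ (getD_mem _ _ _ (idx_lt Z))))
theorem opsB_mem (Z : F9) : opsB Z ∈ allOps :=
  List.mem_append_right _ (List.mem_append_right _ (List.mem_append_right _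
    (List.mem_append_left _ (getD_mem _ _ _ (idx_lt Z)))))
theorem opsC_mem (Z : F9) : opsC Z ∈ allOps :=
  List.mem_append_right _ (List.mem_append_right _ (List.mem_append_right _
    (List.mem_append_right _ (getD_mem _ _ _ (idx_lt Z)))))

section
variable {F : Type*} [Field F] {ω : F}

/-- every generating matrix of `3·J₃` acts on codes by one of the words in `allOps`. -/
theorem exists_ops_of_mem_gens (H : Good ω) {M : Matrix F9 F9 F} (hM : M ∈ j3Gens F ω) :
    ∃ l ∈ allOps, ∀ n < 2 ^ 18, M *ᵥ dec ω n = dec ω (act l n) := by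
  rcases hM with (((⟨Z, rfl⟩ | ⟨Z, rfl⟩) | ⟨Z, rfl⟩) | ⟨Z, hZ, rfl⟩) | ⟨Z, hZ, rfl⟩
  · exact ⟨opsA Z, opsA_mem Z, by rw [j3A_eq H]; exact matF_mulVec H (chkA Z)⟩
  · exact ⟨opsE Z, opsE_mem Z, by rw [j3E_eq H]; exact matF_mulVec H (chkE Z)⟩
  · exact ⟨opsD Z, opsD_mem Z, by rw [j3D_eq H]; exact matF_mulVec H (chkD Z)⟩
  · exact ⟨opsB Z, opsB_mem Z, by rw [j3B_eq (ω := ω)]; exact matF_mulVec H (chkB Z hZ)⟩
  · exact ⟨opsC Z, opsC_mem Z, by rw [j3C_eq (ω := ω)]; exact matF_mulVec H (chkC Z hZ)⟩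

theorem isUnit_of_ops [Fintype F] (hF : Fintype.card F = 4) (H : Good ω) {M : Matrix F9 F9 F}
    {l : List ℕ} (hl : okOps 18 l = true) (hM : ∀ n < 2 ^ 18, M *ᵥ dec ω n = dec ω (act l n)) :
    IsUnit M := by
  rw [← Matrix.mulVec_injective_iff_isUnit]
  intro v w hvw
  obtain ⟨a, ha, rfl⟩ := exists_dec hF H v
  obtain ⟨b, hb, rfl⟩ := exists_dec hF H w
  have h : M *ᵥ dec ω a = M *ᵥ dec ω b := hvw
  rw [hM a ha, hM b hb] at h
  have := dec_injOn H (act_lt hl ha) (act_lt hl hb) h
  rw [act_injective hl this]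

/-- the word `l` is realised by an element of `3·J₃` -/
def InG (ω : F) (l : List ℕ) : Prop :=
  ∃ g ∈ threeJ3 F ω, ∀ n < 2 ^ 18, (g : Matrix F9 F9 F) *ᵥ dec ω n = dec ω (act l n)

theorem inG_of_mem_gens [Fintype F] (hF : Fintype.card F = 4) (H : Good ω) {M : Matrix F9 F9 F}
    (hM : M ∈ j3Gens F ω) {l : List ℕ} (hl : okOps 18 l = true)
    (h : ∀ n < 2 ^ 18, M *ᵥ dec ω n = dec ω (act l n)) : InG ω l := by
  obtain ⟨u, hu⟩ := isUnit_of_ops hF H hl h
  refine ⟨u, Subgroup.subset_closure ?_, ?_⟩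
  · show (u : Matrix F9 F9 F) ∈ j3Gens F ω
    rw [hu]; exact hM
  · intro n hn
    rw [hu]; exact h n hn

theorem inG_opsA [Fintype F] (hF : Fintype.card F = 4) (H : Good ω) (Z : F9) : InG ω (opsA Z) :=
  inG_of_mem_gens hF H (M := j3A F ω Z) (Or.inl (Or.inl (Or.inl (Or.inl ⟨Z, rfl⟩))))
    (allOps_ok _ (opsA_mem Z)) (by rw [j3A_eq H]; exact matF_mulVec H (chkA Z))
theorem inG_opsE [Fintype F] (hF : Fintype.card F = 4) (H : Good ω) (Z : F9) : InG ω (opsE Z) :=
  inG_of_mem_gens hF H (M := j3E F ω Z) (Or.inl (Or.inl (Or.inl (Or.inr ⟨Z, rfl⟩))))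
    (allOps_ok _ (opsE_mem Z)) (by rw [j3E_eq H]; exact matF_mulVec H (chkE Z))
theorem inG_opsD [Fintype F] (hF : Fintype.card F = 4) (H : Good ω) (Z : F9) : InG ω (opsD Z) :=
  inG_of_mem_gens hF H (M := j3D F ω Z) (Or.inl (Or.inl (Or.inr ⟨Z, rfl⟩)))
    (allOps_ok _ (opsD_mem Z)) (by rw [j3D_eq H]; exact matF_mulVec H (chkD Z))
theorem inG_opsB [Fintype F] (hF : Fintype.card F = 4) (H : Good ω) (Z : F9) (hZ : Z ≠ 0) :
    InG ω (opsB Z) :=
  inG_of_mem_gens hF H (M := j3B F Z) (Or.inl (Or.inr ⟨Z, hZ, rfl⟩))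
    (allOps_ok _ (opsB_mem Z)) (by rw [j3B_eq (ω := ω)]; exact matF_mulVec H (chkB Z hZ))
theorem inG_opsC [Fintype F] (hF : Fintype.card F = 4) (H : Good ω) (Z : F9) (hZ : Z ≠ 0) :
    InG ω (opsC Z) :=
  inG_of_mem_gens hF H (M := j3C F Z) (Or.inr ⟨Z, hZ, rfl⟩)
    (allOps_ok _ (opsC_mem Z)) (by rw [j3C_eq (ω := ω)]; exact matF_mulVec H (chkC Z hZ))

/-- seven generators which suffice for the orbits. -/
def gens7 : List (List ℕ) :=
  [opsA (1, 0), opsA (0, 1), opsE 0, opsD (1, 0), opsD (0, 1), opsB (1, 1), opsC (1, 0)]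

theorem inG_gens7 [Fintype F] (hF : Fintype.card F = 4) (H : Good ω) : ∀ l ∈ gens7, InG ω l := by
  intro l hl
  have h11 : ((1, 1) : F9) ≠ 0 := by decide
  have h10 : ((1, 0) : F9) ≠ 0 := by decide
  rcases List.mem_cons.mp hl with rfl | hl
  · exact inG_opsA hF H _
  rcases List.mem_cons.mp hl with rfl | hl
  · exact inG_opsA hF H _
  rcases List.mem_cons.mp hl with rfl | hl
  · exact inG_opsE hF H _
  rcases List.mem_cons.mp hl with rfl | hl
  · exact inG_opsD hF H _
  rcases List.mem_cons.mp hl with rfl | hl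
  · exact inG_opsD hF H _
  rcases List.mem_cons.mp hl with rfl | hl
  · exact inG_opsB hF H _ h11
  rcases List.mem_cons.mp hl with rfl | hl
  · exact inG_opsC hF H _ h10
  · exact absurd hl (List.not_mem_nil)

end

end Cfsg.Agent.J3.Core
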