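import Cfsg.Agent.J3.Mono

/-!
# Generators of `3·J₃` as group elements, and elements given by tables
-/

set_option autoImplicit false

namespace Cfsg.Agent.J3.Elts

open Cfsg.Spor Cfsg.Agent.J3.Core Cfsg.Agent.J3.Tab Cfsg.Agent.J3.Mono
open Cfsg.Agent.Lib.BitSet Matrix

section
variable {F : Type*} [Field F]

/-- the matrix of an element of `3·J₃` -/
def mat (ω : F) : threeJ3 F ω →* Matrix F9 F9 F :=
  (Units.coeHom (Matrix F9 F9 F)).comp (threeJ3 F ω).subtype

variable {ω : F}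

theorem mat_apply (g : threeJ3 F ω) : mat ω g = ((g : GL F9 F) : Matrix F9 F9 F) := rfl

theorem mat_injective : Function.Injective (mat ω) := by
  intro g h e
  apply Subtype.ext
  apply Units.ext
  exact e

/-- The generators as elements of the group. -/
structure Gens (F : Type*) [Field F] (ω : F) where
  a : F9 → threeJ3 F ω
  d : F9 → threeJ3 F ω
  b : F9 → threeJ3 F ω
  e : threeJ3 F ω
  c : threeJ3 F ω
  ha : ∀ Z, mat ω (a Z) = j3A F ω Z
  hd : ∀ Z, mat ω (d Z) = j3D F ω Z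
  hb : ∀ Z, Z ≠ 0 → mat ω (b Z) = j3B F Z
  he : mat ω e = j3E F ω 0
  hc : mat ω c = j3C F F9.one

theorem exists_mem [Fintype F] (hF : Fintype.card F = 4) (H : Good ω) {M : Matrix F9 F9 F}
    (hM : M ∈ j3Gens F ω) : ∃ g : threeJ3 F ω, mat ω g = M := by
  obtain ⟨l, hl, hlM⟩ := exists_ops_of_mem_gens H hM
  obtain ⟨u, hu⟩ := isUnit_of_ops hF H (allOps_ok l hl) hlM
  exact ⟨⟨u, Subgroup.subset_closure (show (u : Matrix F9 F9 F) ∈ j3Gens F ω by rw [hu]; exact hM)⟩, hu⟩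

theorem exists_gens [Fintype F] (hF : Fintype.card F = 4) (H : Good ω) : Nonempty (Gens F ω) := by
  have hA : ∀ Z, ∃ g : threeJ3 F ω, mat ω g = j3A F ω Z := fun Z =>
    exists_mem hF H (Or.inl (Or.inl (Or.inl (Or.inl ⟨Z, rfl⟩))))
  have hE : ∃ g : threeJ3 F ω, mat ω g = j3E F ω 0 :=
    exists_mem hF H (Or.inl (Or.inl (Or.inl (Or.inr ⟨0, rfl⟩))))
  have hD : ∀ Z, ∃ g : threeJ3 F ω, mat ω g = j3D F ω Z := fun Z =>
    exists_mem hF H (Or.inl (Or.inl (Or.inr ⟨Z, rfl⟩)))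
  have hB : ∀ Z, ∃ g : threeJ3 F ω, Z ≠ 0 → mat ω g = j3B F Z := by
    intro Z
    by_cases hZ : Z = 0
    · exact ⟨1, fun h => absurd hZ h⟩
    · obtain ⟨g, hg⟩ := exists_mem hF H (M := j3B F Z) (Or.inl (Or.inr ⟨Z, hZ, rfl⟩))
      exact ⟨g, fun _ => hg⟩
  have hC : ∃ g : threeJ3 F ω, mat ω g = j3C F F9.one :=
    exists_mem hF H (Or.inr ⟨F9.one, one_ne, rfl⟩)
  choose a ha using hA
  choose d hd using hD
  choose b hb using hB
  obtain ⟨e, he⟩ := hE
  obtain ⟨c, hc⟩ := hC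
  exact ⟨⟨a, d, b, e, c, ha, hd, hb, he, hc⟩⟩

namespace Gens
variable (G : Gens F ω)

/-- a subgroup containing the generators is everything -/
theorem eq_top (H : Good ω) {N : Subgroup (threeJ3 F ω)} (hs : ∀ x : threeJ3 F ω, ∀ n : ℕ,
      mat ω x = ω ^ n • 1 → x ∈ N) (ha : ∀ Z, G.a Z ∈ N) (hd : ∀ Z, G.d Z ∈ N)
    (hb : ∀ Z, Z ≠ 0 → G.b Z ∈ N) (he : G.e ∈ N) (hc : G.c ∈ N) : N = ⊤ := by
  rw [eq_top_iff]
  rintro ⟨g, hg⟩ -
  have key : ∀ (x : GL F9 F) (hx : x ∈ threeJ3 F ω), (⟨x, hx⟩ : threeJ3 F ω) ∈ N := by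
    intro x hx
    unfold threeJ3 at hx
    induction hx using Subgroup.closure_induction with
    | one => exact N.one_mem
    | mul x y _ _ hx hy => exact N.mul_mem hx hy
    | inv x _ hx => exact N.inv_mem hx
    | mem x hx =>
      have hx' : x ∈ threeJ3 F ω := Subgroup.subset_closure hx
      rcases hx with (((⟨Z, hZ⟩ | ⟨Z, hZ⟩) | ⟨Z, hZ⟩) | ⟨Z, hZ0, hZ⟩) | ⟨Z, hZ0, hZ⟩
      · have : (⟨x, hx'⟩ : threeJ3 F ω) = G.a Z := mat_injective (by rw [G.ha]; exact hZ.symm)
        rw [this]; exact ha Z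
      · have h1 := relE H Z
        rw [← G.ha, ← G.he, ← map_mul, hZ, smul_mul_assoc, one_mul] at h1
        set y : threeJ3 F ω := ⟨x, hx'⟩ with hy
        have h2 : mat ω (y * (G.e * G.a Z)⁻¹) = ω ^ nrm Z • 1 := by
          rw [map_mul]
          have h3 : mat ω y = (x : Matrix F9 F9 F) := rfl
          rw [h3, h1, smul_mul_assoc, ← map_mul, mul_inv_cancel, map_one]
        have h3 := N.mul_mem (hs _ _ h2) (N.mul_mem he (ha Z))
        rwa [inv_mul_cancel_right] at h3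
      · have : (⟨x, hx'⟩ : threeJ3 F ω) = G.d Z := mat_injective (by rw [G.hd]; exact hZ.symm)
        rw [this]; exact hd Z
      · have : (⟨x, hx'⟩ : threeJ3 F ω) = G.b Z :=
          mat_injective (by rw [G.hb Z hZ0]; exact hZ)
        rw [this]; exact hb Z hZ0
      · have : (⟨x, hx'⟩ : threeJ3 F ω) = G.b Z * G.c :=
          mat_injective (by rw [map_mul, G.hb Z hZ0, G.hc, ← relCZ H Z hZ0]; exact hZ)
        rw [this]; exact N.mul_mem (hb Z hZ0) hc
  exact key g hg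

end Gens

/-- `T` is a table of the group element `g` -/
def RepG (ω : F) (T : List ℕ) (g : threeJ3 F ω) : Prop := Rep ω T (mat ω g)

theorem RepG.mul {T U : List ℕ} {g h : threeJ3 F ω} (hg : RepG ω T g) (hh : RepG ω U h) :
    RepG ω (compT T U) (g * h) := by
  unfold RepG
  rw [map_mul]
  exact Rep.mul hg hh

theorem RepG.ext {T U : List ℕ} {g h : threeJ3 F ω} (hg : RepG ω T g) (hh : RepG ω U h)
    (hc : cols T = cols U) : g = h := mat_injective (Rep.ext hg hh hc)

theorem repG_one (H : Good ω) : RepG ω (tS 0) (1 : threeJ3 F ω) := by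
  have h1 := repS H 0 (by norm_num)
  rw [pow_zero, one_smul] at h1
  unfold RepG
  rw [map_one]
  exact h1

/-- powers of a table -/
def powT (T : List ℕ) : ℕ → List ℕ
  | 0 => tS 0
  | n + 1 => compT T (powT T n)

theorem RepG.pow (H : Good ω) {T : List ℕ} {g : threeJ3 F ω} (hg : RepG ω T g) :
    ∀ n : ℕ, RepG ω (powT T n) (g ^ n)
  | 0 => by rw [pow_zero]; exact repG_one H
  | n + 1 => by rw [pow_succ']; exact hg.mul (hg.pow H n)

/-- different columns, different elements -/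
theorem RepG.cols_eq (H : Good ω) {T U : List ℕ} {g : threeJ3 F ω} (hT : RepG ω T g)
    (hU : RepG ω U g) (z : F9) : (cols T).getD (idx z) 0 = (cols U).getD (idx z) 0 := by
  have h1 := hT.col z
  have h2 := hU.col z
  have h3 : dec ω ((cols T).getD (idx z) 0) = dec ω ((cols U).getD (idx z) 0) := by
    rw [← h1, ← h2]
  refine dec_injOn H ?_ ?_ h3
  · rw [cols_getD]
    by_cases h : 2 * idx z < T.length
    · rw [List.getD_eq_getElem _ _ h]
      exact hT.1 _ (List.getElem_mem h)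
    · rw [List.getD_eq_default _ _ (by omega)]; norm_num
  · rw [cols_getD]
    by_cases h : 2 * idx z < U.length
    · rw [List.getD_eq_getElem _ _ h]
      exact hU.1 _ (List.getElem_mem h)
    · rw [List.getD_eq_default _ _ (by omega)]; norm_num

end

/-- Lagrange for `⟨Q, x⟩`. -/
theorem mul_card_dvd {G : Type*} [Group G] [Finite G] {p : ℕ} (hp : p.Prime) (Q S : Subgroup G)
    (hQS : Q ≤ S) (x : G) (hxS : x ∈ S) (hxn : ∀ q ∈ Q, x * q * x⁻¹ ∈ Q) (hx : x ∉ Q)
    (hxp : x ^ p ∈ Q) : p * Nat.card Q ∣ Nat.card S := by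
  have hfact : Fact p.Prime := ⟨hp⟩
  have hxn' : x ∈ Subgroup.normalizer (Q : Set G) := by
    have hle : ∀ n : ℕ, ∀ q ∈ Q, x ^ n * q * (x ^ n)⁻¹ ∈ Q := by
      intro n
      induction n with
      | zero => intro q hq; simpa using hq
      | succ n ih =>
        intro q hq
        have h := hxn _ (ih q hq)
        have e : x * (x ^ n * q * (x ^ n)⁻¹) * x⁻¹ = x ^ (n + 1) * q * (x ^ (n + 1))⁻¹ := by
          rw [pow_succ']; group
        rwa [e] at h
    rw [Subgroup.mem_normalizer_iff]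
    intro q
    constructor
    · exact hxn q
    · intro h
      have h2 := hle (orderOf x - 1) _ h
      have e : x ^ (orderOf x - 1) = x⁻¹ := by
        symm
        rw [inv_eq_iff_mul_eq_one, ← pow_succ', Nat.sub_add_cancel (orderOf_pos x),
          pow_orderOf_eq_one]
      rw [e] at h2
      simpa [mul_assoc] using h2
  set T : Subgroup G := S ⊓ Subgroup.normalizer (Q : Set G) with hT
  have hQT : Q ≤ T := le_inf hQS Subgroup.le_normalizer
  have hxT : x ∈ T := ⟨hxS, hxn'⟩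
  have hnormal : (Q.subgroupOf T).Normal := by
    refine ⟨?_⟩
    rintro ⟨q, _⟩ hq ⟨g, hg⟩
    rw [Subgroup.mem_subgroupOf] at hq ⊢
    exact (Subgroup.mem_normalizer_iff.mp hg.2 q).mp hq
  have h1 : orderOf ((⟨x, hxT⟩ : T) : T ⧸ Q.subgroupOf T) = p := by
    refine orderOf_eq_prime ?_ ?_
    · rw [← QuotientGroup.mk_pow, QuotientGroup.eq_one_iff, Subgroup.mem_subgroupOf]
      exact hxp
    · rw [Ne, QuotientGroup.eq_one_iff, Subgroup.mem_subgroupOf]
      exact hx
  have h2 : p ∣ Nat.card (T ⧸ Q.subgroupOf T) := h1 ▸ orderOf_dvd_natCard _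
  have h3 := Subgroup.card_eq_card_quotient_mul_card_subgroup (Q.subgroupOf T)
  have h4 : Nat.card (Q.subgroupOf T) = Nat.card Q :=
    Nat.card_congr (Subgroup.subgroupOfEquivOfLe hQT).toEquiv
  rw [h4] at h3
  have h5 : Nat.card T ∣ Nat.card S := Subgroup.card_dvd_of_le inf_le_left
  exact dvd_trans (h3 ▸ Nat.mul_dvd_mul_right h2 _) h5

end Cfsg.Agent.J3.Elts
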