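import Cfsg.Agent.J3.Tab

/-!
# The monomial subgroup of `3·J₃` (relations between the generators)

`Mon ω x` : `x = ω^r B_u E_0^k A_a D_w`. This set of at most `3·8·3·9·9 = 5832` matrices is closed
under multiplication and contains all `A, E, D, B`.
-/

set_option autoImplicit false

namespace Cfsg.Agent.J3.Mono

open Cfsg.Spor Cfsg.Agent.J3.Core Cfsg.Agent.J3.Tab Cfsg.Agent.Lib.BitSet Matrix

/-- `T` is the table of the matrix with code `M` -/
def chkT (T : List ℕ) (M : F9 → F9 → ℕ) : Bool :=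
  decide ((∀ t ∈ T, t < 2 ^ 18) ∧ ∀ z w : F9, M w z < 4 ∧
    (T.getD (2 * idx z) 0 >>> (2 * idx w)) % 4 = M w z ∧
    (T.getD (2 * idx z + 1) 0 >>> (2 * idx w)) % 4 = mulw (M w z))

section
variable {F : Type*} [Field F] {ω : F}

theorem rep_matF (H : Good ω) {T : List ℕ} {M : F9 → F9 → ℕ} (hc : chkT T M = true) :
    Rep ω T (matF ω M) := by
  obtain ⟨hlt, hc'⟩ := of_decide_eq_true hc
  refine ⟨hlt, ?_⟩
  refine xor_induction (k := 18) (P := fun n => matF ω M *ᵥ dec ω n = dec ω (appT T n)) ?_ ?_ ?_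
  · show matF ω M *ᵥ dec ω 0 = dec ω (appT T 0)
    rw [appT_zero, dec_zero, Matrix.mulVec_zero]
  · intro i hi
    obtain ⟨z, hz⟩ := exists_idx i hi
    rcases hz with rfl | rfl
    · show matF ω M *ᵥ dec ω (2 ^ (2 * idx z)) = dec ω (appT T (2 ^ (2 * idx z)))
      rw [dec_two_pow, appT_two_pow]
      funext w
      obtain ⟨h0, h1, h2⟩ := hc' z w
      rw [Matrix.mulVec_single_one, Matrix.col_apply, dec_apply, ← val_mod (_ >>> _), h1]
      rfl
    · show matF ω M *ᵥ dec ω (2 ^ (2 * idx z + 1)) = dec ω (appT T (2 ^ (2 * idx z + 1)))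
      rw [dec_two_pow_succ, appT_two_pow]
      funext w
      obtain ⟨h0, h1, h2⟩ := hc' z w
      rw [Matrix.mulVec_single, dec_apply, ← val_mod (_ >>> _), h2, val_mulw H _ h0]
      show MulOpposite.op ω • (val ω (M w z)) = _
      rw [MulOpposite.smul_eq_mul_unop]
      rfl
  · intro a _ b _ ha hb
    show matF ω M *ᵥ dec ω (a ^^^ b) = dec ω (appT T (a ^^^ b))
    have ha' : matF ω M *ᵥ dec ω a = dec ω (appT T a) := ha
    have hb' : matF ω M *ᵥ dec ω b = dec ω (appT T b) := hb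
    rw [appT_xor, dec_xor H, dec_xor H, Matrix.mulVec_add, ha', hb']

/-- code of the scalar `ω ^ s` (`s < 3`) -/
def cS (s : ℕ) (w z : F9) : ℕ := if w = z then s + 1 else 0

theorem chkS : ∀ s < 3, chkT (tS s) (cS s) = true := by decide +kernel

theorem omega_pow_eq (H : Good ω) : ∀ s < 3, ω ^ s = val ω (s + 1) := by
  intro s hs
  interval_cases s
  · rw [pow_zero, val_one]
  · rw [pow_one, val_two]
  · rw [val_three, H.sq]

theorem repS (H : Good ω) (s : ℕ) (hs : s < 3) :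
    Rep ω (tS s) (ω ^ s • (1 : Matrix F9 F9 F)) := by
  have h : ω ^ s • (1 : Matrix F9 F9 F) = matF ω (cS s) := by
    ext w z
    rw [Matrix.smul_apply, omega_pow_eq H s hs]
    unfold matF cS
    rw [Matrix.of_apply, Matrix.one_apply]
    split
    · simp
    · simp [val_zero]
  rw [h]
  exact rep_matF H (chkS s hs)

/-! ### relations -/

theorem chkAA : ∀ Z a : F9, beqL (compT (tA Z) (cols (tA a))) (cols (tA (Z + a))) = true := by
  decide +kernel
theorem relAA (H : Good ω) (Z a : F9) : j3A F ω Z * j3A F ω a = j3A F ω (Z + a) :=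
  Rep.ext ((repA H Z).mul (repA H a)) (repA H (Z + a))
    (by rw [cols_compT]; exact beqL_eq (chkAA Z a))

theorem chkAE : ∀ Z : F9, beqL (compT (tA Z) (cols tE)) (compT tE (cols (tA Z))) = true := by
  decide +kernel
theorem relAE (H : Good ω) (Z : F9) : j3A F ω Z * j3E F ω 0 = j3E F ω 0 * j3A F ω Z :=
  Rep.ext ((repA H Z).mul (repE H)) ((repE H).mul (repA H Z))
    (by rw [cols_compT, cols_compT]; exact beqL_eq (chkAE Z))

theorem mul_ne : ∀ Z u : F9, Z ≠ 0 → u ≠ 0 → F9.mul Z u ≠ 0 := by decide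

theorem chkBB : ∀ Z u : F9, Z ≠ 0 → u ≠ 0 →
    beqL (compT (tB Z) (cols (tB u))) (cols (tB (F9.mul Z u))) = true := by
  decide +kernel
theorem relBB (H : Good ω) (Z u : F9) (hZ : Z ≠ 0) (hu : u ≠ 0) :
    j3B F Z * j3B F u = j3B F (F9.mul Z u) :=
  Rep.ext ((repB H Z hZ).mul (repB H u hu)) (repB H _ (mul_ne Z u hZ hu))
    (by rw [cols_compT]; exact beqL_eq (chkBB Z u hZ hu))

theorem chkEB1 : ∀ u : F9, u ≠ 0 → u.1 ^ 2 + u.2 ^ 2 = 1 →
    beqL (compT tE (cols (tB u))) (compT (tB u) (cols tE)) = true := by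
  decide +kernel
theorem chkEB2 : ∀ u : F9, u ≠ 0 → u.1 ^ 2 + u.2 ^ 2 ≠ 1 →
    beqL (compT tE (cols (tB u))) (compT (tB u) (compT tE (cols tE))) = true := by
  decide +kernel
theorem relEB (H : Good ω) (u : F9) (hu : u ≠ 0) :
    ∃ k : ℕ, j3E F ω 0 * j3B F u = j3B F u * j3E F ω 0 ^ k := by
  by_cases h : u.1 ^ 2 + u.2 ^ 2 = 1
  · refine ⟨1, ?_⟩
    rw [pow_one]
    exact Rep.ext ((repE H).mul (repB H u hu)) ((repB H u hu).mul (repE H))
      (by rw [cols_compT, cols_compT]; exact beqL_eq (chkEB1 u hu h))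
  · refine ⟨2, ?_⟩
    rw [pow_two]
    exact Rep.ext ((repE H).mul (repB H u hu)) ((repB H u hu).mul ((repE H).mul (repE H)))
      (by rw [cols_compT, cols_compT, cols_compT]; exact beqL_eq (chkEB2 u hu h))

/-- complex conjugation on `F9` -/
def conj9 (u : F9) : F9 := (u.1, -u.2)

theorem chkAB : ∀ Z u : F9, u ≠ 0 →
    beqL (compT (tA Z) (cols (tB u))) (compT (tB u) (cols (tA (F9.mul (conj9 u) Z)))) = true := by
  decide +kernel
theorem relAB (H : Good ω) (Z u : F9) (hu : u ≠ 0) :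
    j3A F ω Z * j3B F u = j3B F u * j3A F ω (F9.mul (conj9 u) Z) :=
  Rep.ext ((repA H Z).mul (repB H u hu)) ((repB H u hu).mul (repA H _))
    (by rw [cols_compT, cols_compT]; exact beqL_eq (chkAB Z u hu))

theorem chkDB : ∀ Z u : F9, u ≠ 0 →
    beqL (compT (tD Z) (cols (tB u))) (compT (tB u) (cols (tD (F9.div Z u)))) = true := by
  decide +kernel
theorem relDB (H : Good ω) (Z u : F9) (hu : u ≠ 0) :
    j3D F ω Z * j3B F u = j3B F u * j3D F ω (F9.div Z u) :=
  Rep.ext ((repD H Z).mul (repB H u hu)) ((repB H u hu).mul (repD H _))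
    (by rw [cols_compT, cols_compT]; exact beqL_eq (chkDB Z u hu))

/-- exponent in `E_Z`, `D_Z E_0` -/
def nrm (Z : F9) : ℕ := (Z.1 ^ 2 + Z.2 ^ 2).val

theorem nrm_lt (Z : F9) : nrm Z < 3 := ZMod.val_lt _

theorem chkDE : ∀ Z : F9, beqL (compT (tD Z) (cols tE))
    (compT (tS (nrm Z)) (compT tE (compT (tA Z) (cols (tD Z))))) = true := by
  decide +kernel
theorem relDE (H : Good ω) (Z : F9) :
    j3D F ω Z * j3E F ω 0 = (ω ^ nrm Z • 1) * (j3E F ω 0 * (j3A F ω Z * j3D F ω Z)) :=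
  Rep.ext ((repD H Z).mul (repE H))
    ((repS H _ (nrm_lt Z)).mul ((repE H).mul ((repA H Z).mul (repD H Z))))
    (by rw [cols_compT, cols_compT, cols_compT, cols_compT]; exact beqL_eq (chkDE Z))

theorem chkE : ∀ Z : F9, beqL (cols ((List.range 18).map fun i => act (opsE Z) (2 ^ i)))
    (compT (tS (nrm Z)) (compT tE (cols (tA Z)))) = true := by
  decide +kernel
theorem relE (H : Good ω) (Z : F9) :
    j3E F ω Z = (ω ^ nrm Z • 1) * (j3E F ω 0 * j3A F ω Z) :=
  Rep.ext (Rep.of_act (allOps_ok _ (opsE_mem Z))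
      (by rw [j3E_eq H]; exact matF_mulVec H (Core.chkE Z)) rfl)
    ((repS H _ (nrm_lt Z)).mul ((repE H).mul (repA H Z)))
    (by rw [cols_compT, cols_compT]; exact beqL_eq (chkE Z))

/-- exponent in `D_Z A_a` -/
def dot (Z a : F9) : ℕ := (-(Z.1 * a.1 + Z.2 * a.2)).val

theorem dot_lt (Z a : F9) : dot Z a < 3 := ZMod.val_lt _

theorem chkDA : ∀ Z a : F9, beqL (compT (tD Z) (cols (tA a)))
    (compT (tS (dot Z a)) (compT (tA a) (cols (tD Z)))) = true := by
  decide +kernel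
theorem relDA (H : Good ω) (Z a : F9) :
    j3D F ω Z * j3A F ω a = (ω ^ dot Z a • 1) * (j3A F ω a * j3D F ω Z) :=
  Rep.ext ((repD H Z).mul (repA H a))
    ((repS H _ (dot_lt Z a)).mul ((repA H a).mul (repD H Z)))
    (by rw [cols_compT, cols_compT, cols_compT]; exact beqL_eq (chkDA Z a))

def wDD : List (List ℕ) :=
  [[0, 0, 0, 0, 0, 0, 0, 0, 0],
   [0, 96, 0, 40, 120, 9, 20, 132, 6],
   [0, 0, 48, 36, 6, 68, 24, 9, 88],
   [0, 52, 104, 16, 116, 72, 0, 6, 9],
   [0, 5, 104, 10, 80, 68, 20, 136, 0],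
   [0, 52, 10, 5, 120, 128, 24, 0, 84],
   [0, 56, 100, 0, 9, 6, 32, 136, 84],
   [0, 10, 100, 40, 116, 0, 5, 64, 88],
   [0, 56, 5, 36, 0, 72, 10, 132, 112]]

/-- witnesses `s + 4 k + 16 a` for `D_Z D_w = ω^s E_0^k A_a D_{Z+w}` -/
def wit (Z w : F9) : ℕ := get 0 (get [] wDD (idx Z)) (idx w)

/-- the element of `F9` with index `i` -/
def z9 (i : ℕ) : F9 := (((i / 3 : ℕ) : ZMod 3), ((i % 3 : ℕ) : ZMod 3))

/-- table of `E_0 ^ k`, `k < 3` -/
def tEk (k : ℕ) : List ℕ :=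
  bif Nat.beq k 0 then tS 0 else bif Nat.beq k 1 then tE else compT tE tE

theorem repEk (H : Good ω) (k : ℕ) (hk : k < 3) : Rep ω (tEk k) (j3E F ω 0 ^ k) := by
  interval_cases k
  · have := repS H 0 (by norm_num)
    rw [pow_zero, one_smul] at this
    rw [pow_zero]
    exact this
  · rw [pow_one]; exact repE H
  · rw [pow_two]; exact (repE H).mul (repE H)

theorem chkDD : ∀ Z w : F9, beqL (compT (tD Z) (cols (tD w)))
    (compT (tS (wit Z w % 4)) (compT (tEk (wit Z w / 4 % 4))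
      (compT (tA (z9 (wit Z w / 16))) (cols (tD (Z + w)))))) = true := by
  decide +kernel
theorem wit_lt : ∀ Z w : F9, wit Z w % 4 < 3 ∧ wit Z w / 4 % 4 < 3 := by decide +kernel
theorem relDD (H : Good ω) (Z w : F9) : ∃ (s k : ℕ) (a : F9),
    j3D F ω Z * j3D F ω w = (ω ^ s • 1) * (j3E F ω 0 ^ k * (j3A F ω a * j3D F ω (Z + w))) :=
  ⟨_, _, _, Rep.ext ((repD H Z).mul (repD H w))
    ((repS H _ (wit_lt Z w).1).mul ((repEk H _ (wit_lt Z w).2).mul
      ((repA H (z9 (wit Z w / 16))).mul (repD H (Z + w)))))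
    (by rw [cols_compT, cols_compT, cols_compT, cols_compT]; exact beqL_eq (chkDD Z w))⟩

theorem chkCZ : ∀ Z : F9, Z ≠ 0 →
    beqL (cols ((List.range 18).map fun i => act (opsC Z) (2 ^ i)))
      (compT (tB Z) (cols tC)) = true := by
  decide +kernel
theorem relCZ (H : Good ω) (Z : F9) (hZ : Z ≠ 0) : j3C F Z = j3B F Z * j3C F F9.one :=
  Rep.ext (ω := ω) (Rep.of_act (allOps_ok _ (opsC_mem Z))
      (by rw [j3C_eq (ω := ω)]; exact matF_mulVec H (chkC Z hZ)) rfl)
    ((repB H Z hZ).mul (repC H))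
    (by rw [cols_compT]; exact beqL_eq (chkCZ Z hZ))

theorem inv_ne : ∀ u : F9, u ≠ 0 → F9.inv u ≠ 0 := by decide

theorem chkCB : ∀ u : F9, u ≠ 0 →
    beqL (compT tC (cols (tB u))) (compT (tB (F9.inv u)) (cols tC)) = true := by
  decide +kernel
theorem relCB (H : Good ω) (u : F9) (hu : u ≠ 0) :
    j3C F F9.one * j3B F u = j3B F (F9.inv u) * j3C F F9.one :=
  Rep.ext (ω := ω) ((repC H).mul (repB H u hu)) ((repB H _ (inv_ne u hu)).mul (repC H))
    (by rw [cols_compT, cols_compT]; exact beqL_eq (chkCB u hu))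

theorem chkCE : beqL (compT tC (cols tE)) (compT tE (cols tC)) = true := by
  decide +kernel
theorem relCE (H : Good ω) :
    j3C F F9.one * j3E F ω 0 = j3E F ω 0 * j3C F F9.one :=
  Rep.ext (ω := ω) ((repC H).mul (repE H)) ((repE H).mul (repC H))
    (by rw [cols_compT, cols_compT]; exact beqL_eq chkCE)

end

end Cfsg.Agent.J3.Mono
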