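import Cfsg.Agent.J3.Core

/-!
# Tables for `3·J₃`: matrices over `F_4` as lists of 18 codes

`Rep ω T g` : the `9 × 9` matrix `g` acts on codes of vectors by the `F_2`-linear map with table `T`.
All identities between products of the generators of `threeJ3` are checked on tables.
(Data and plan of the double coset enumeration: helper926.)
-/

set_option autoImplicit false

namespace Cfsg.Agent.J3.Tab

open Cfsg.Spor Cfsg.Agent.J3.Core Cfsg.Agent.Lib.BitSet Matrix

/-- the `F_2`-linear map with table `T` -/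
def appT (T : List ℕ) : ℕ → ℕ :=
  List.rec (fun _ => 0)
    (fun t _ ih n => Nat.xor (Nat.mul (Nat.land n 1) t) (ih (Nat.shiftRight n 1))) T

def compT (T U : List ℕ) : List ℕ := U.map (appT T)

/-- even entries -/
def cols : List ℕ → List ℕ
  | [] => []
  | [a] => [a]
  | a :: _ :: l => a :: cols l

def beqL : List ℕ → List ℕ → Bool
  | [], [] => true
  | a :: l, b :: m => Nat.beq a b && beqL l m
  | _, _ => false

theorem beqL_eq : ∀ {l m : List ℕ}, beqL l m = true → l = m
  | [], [], _ => rfl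
  | a :: l, b :: m, h => by
    have h' : (Nat.beq a b && beqL l m) = true := h
    rw [Bool.and_eq_true] at h'
    rw [Nat.eq_of_beq_eq_true h'.1, beqL_eq h'.2]
  | [], _ :: _, h => by exact absurd h (by simp [beqL])
  | _ :: _, [], h => by exact absurd h (by simp [beqL])

theorem appT_nil (n : ℕ) : appT [] n = 0 := rfl
theorem appT_cons (t : ℕ) (T : List ℕ) (n : ℕ) :
    appT (t :: T) n = ((n &&& 1) * t) ^^^ appT T (n >>> 1) := rfl

theorem xor_four (a b c d : ℕ) : (a ^^^ b) ^^^ (c ^^^ d) = (a ^^^ c) ^^^ (b ^^^ d) := by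
  rw [Nat.xor_assoc, Nat.xor_assoc, ← Nat.xor_assoc b, ← Nat.xor_assoc c, Nat.xor_comm b c]

theorem appT_zero (T : List ℕ) : appT T 0 = 0 := by
  induction T with
  | nil => rfl
  | cons t T ih => rw [appT_cons, Nat.zero_shiftRight, ih]; simp

theorem appT_xor (T : List ℕ) : ∀ a b : ℕ, appT T (a ^^^ b) = appT T a ^^^ appT T b := by
  induction T with
  | nil => intro a b; simp [appT_nil]
  | cons t T ih =>
    intro a b
    rw [appT_cons, appT_cons, appT_cons, Nat.shiftRight_xor_distrib, ih, xor_four]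
    congr 1
    rw [Nat.and_xor_distrib_right]
    have ha : a &&& 1 = 0 ∨ a &&& 1 = 1 := by
      rw [Nat.and_one_is_mod]; omega
    have hb : b &&& 1 = 0 ∨ b &&& 1 = 1 := by
      rw [Nat.and_one_is_mod]; omega
    rcases ha with ha | ha <;> rcases hb with hb | hb <;> rw [ha, hb] <;> simp

theorem appT_lt {T : List ℕ} (hT : ∀ t ∈ T, t < 2 ^ 18) : ∀ n : ℕ, appT T n < 2 ^ 18 := by
  induction T with
  | nil => intro n; rw [appT_nil]; norm_num
  | cons t T ih =>
    intro n
    rw [appT_cons]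
    refine Nat.xor_lt_two_pow ?_ (ih (fun t' ht' => hT t' (List.mem_cons_of_mem _ ht')) _)
    have ha : n &&& 1 = 0 ∨ n &&& 1 = 1 := by
      rw [Nat.and_one_is_mod]; omega
    rcases ha with ha | ha
    · rw [ha, zero_mul]; norm_num
    · rw [ha, one_mul]; exact hT t List.mem_cons_self

theorem appT_mul_bit (T : List ℕ) (n u : ℕ) : appT T ((n &&& 1) * u) = (n &&& 1) * appT T u := by
  have ha : n &&& 1 = 0 ∨ n &&& 1 = 1 := by
    rw [Nat.and_one_is_mod]; omega
  rcases ha with ha | ha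
  · rw [ha, zero_mul, zero_mul, appT_zero]
  · rw [ha, one_mul, one_mul]

theorem appT_compT (T : List ℕ) : ∀ (U : List ℕ) (n : ℕ), appT (compT T U) n = appT T (appT U n)
  | [], n => by
    show 0 = appT T 0
    rw [appT_zero]
  | u :: U, n => by
    have ih := appT_compT T U (n >>> 1)
    show appT (appT T u :: compT T U) n = _
    rw [appT_cons, ih, appT_cons, appT_xor, appT_mul_bit]

theorem appT_two_pow : ∀ (T : List ℕ) (i : ℕ), appT T (2 ^ i) = T.getD i 0
  | [], i => by simp [appT_nil]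
  | t :: T, 0 => by
    rw [appT_cons]
    have : (2 ^ 0 : ℕ) >>> 1 = 0 := by norm_num [Nat.shiftRight_eq_div_pow]
    rw [this, appT_zero]
    simp
  | t :: T, i + 1 => by
    rw [appT_cons]
    have h1 : (2 ^ (i + 1) : ℕ) >>> 1 = 2 ^ i := by
      rw [Nat.shiftRight_eq_div_pow, pow_succ, pow_one]; omega
    have h2 : (2 ^ (i + 1) : ℕ) &&& 1 = 0 := by
      rw [Nat.and_one_is_mod, pow_succ]; omega
    rw [h1, h2, appT_two_pow T i]
    simp

theorem cols_getD : ∀ (T : List ℕ) (i : ℕ), (cols T).getD i 0 = T.getD (2 * i) 0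
  | [], i => by simp [cols]
  | [a], 0 => by simp [cols]
  | [a], i + 1 => by
    show [a].getD (i + 1) 0 = [a].getD (2 * (i + 1)) 0
    rw [List.getD_eq_default _ _ (by simp), List.getD_eq_default _ _ (by simp; omega)]
  | a :: b :: l, 0 => by simp [cols]
  | a :: b :: l, i + 1 => by
    have := cols_getD l i
    show (a :: cols l).getD (i + 1) 0 = (a :: b :: l).getD (2 * (i + 1)) 0
    rw [List.getD_cons_succ, this, show 2 * (i + 1) = (2 * i + 1) + 1 by ring,
      List.getD_cons_succ, List.getD_cons_succ]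

theorem cols_compT (T : List ℕ) : ∀ U : List ℕ, cols (compT T U) = compT T (cols U)
  | [] => rfl
  | [a] => rfl
  | a :: b :: l => by
    have := cols_compT T l
    show appT T a :: cols (compT T l) = appT T a :: compT T (cols l)
    rw [this]

section
variable {F : Type*} [Field F]

/-- `T` is a table of the matrix `g` -/
def Rep (ω : F) (T : List ℕ) (g : Matrix F9 F9 F) : Prop :=
  (∀ t ∈ T, t < 2 ^ 18) ∧ ∀ n < 2 ^ 18, g *ᵥ dec ω n = dec ω (appT T n)

variable {ω : F}

theorem Rep.mul {T U : List ℕ} {g h : Matrix F9 F9 F} (hg : Rep ω T g) (hh : Rep ω U h) :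
    Rep ω (compT T U) (g * h) := by
  refine ⟨?_, ?_⟩
  · intro t ht
    obtain ⟨u, -, rfl⟩ := List.mem_map.mp ht
    exact appT_lt hg.1 u
  · intro n hn
    rw [← Matrix.mulVec_mulVec, hh.2 n hn, hg.2 _ (appT_lt hh.1 n), appT_compT]

theorem two_mul_idx_lt (z : F9) : 2 ^ (2 * idx z) < 2 ^ 18 :=
  Nat.pow_lt_pow_right (by norm_num) (by have := idx_lt z; omega)

theorem Rep.col {T : List ℕ} {g : Matrix F9 F9 F} (hg : Rep ω T g) (z : F9) :
    (fun w => g w z) = dec ω ((cols T).getD (idx z) 0) := by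
  have h := hg.2 _ (two_mul_idx_lt z)
  rw [dec_two_pow, appT_two_pow, ← cols_getD, Matrix.mulVec_single_one] at h
  exact h

theorem Rep.ext {T U : List ℕ} {g h : Matrix F9 F9 F} (hg : Rep ω T g) (hh : Rep ω U h)
    (hc : cols T = cols U) : g = h := by
  ext w z
  have h1 := congrFun (hg.col z) w
  have h2 := congrFun (hh.col z) w
  rw [hc, ← h2] at h1
  exact h1

theorem Rep.of_act {l : List ℕ} {g : Matrix F9 F9 F} (hl : okOps 18 l = true)
    (h : ∀ n < 2 ^ 18, g *ᵥ dec ω n = dec ω (act l n)) {T : List ℕ}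
    (hT : T = (List.range 18).map fun i => act l (2 ^ i)) : Rep ω T g := by
  subst hT
  have hb : ∀ i < 18, (2 : ℕ) ^ i < 2 ^ 18 := fun i hi => Nat.pow_lt_pow_right (by norm_num) hi
  refine ⟨?_, ?_⟩
  · intro t ht
    obtain ⟨i, hi, rfl⟩ := List.mem_map.mp ht
    exact act_lt hl (hb i (List.mem_range.mp hi))
  · intro n hn
    rw [h n hn]
    congr 1
    refine xor_induction (k := 18) (P := fun n => act l n =
      appT ((List.range 18).map fun i => act l (2 ^ i)) n) ?_ ?_ ?_ n hn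
    · show act l 0 = appT _ 0
      rw [act_zero, appT_zero]
    · intro i hi
      show act l (2 ^ i) = appT _ (2 ^ i)
      rw [appT_two_pow, List.getD_eq_getElem _ _ (by simpa using hi)]
      simp
    · intro a _ b _ ha hb
      show act l (a ^^^ b) = appT _ (a ^^^ b)
      rw [act_xor, appT_xor]
      exact congrArg₂ _ ha hb

end

/-- list access -/
def get {α : Type} (d : α) : List α → ℕ → α
  | [], _ => d
  | a :: l, n => bif Nat.beq n 0 then a else get d l (Nat.pred n)

def lA : List (List ℕ) :=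
  [[1, 2, 4, 8, 16, 32, 64, 128, 256, 512, 1024, 2048, 4096, 8192, 16384, 32768, 65536, 131072],
   [1, 2, 8, 12, 48, 16, 64, 128, 512, 768, 3072, 1024, 4096, 8192, 32768, 49152, 196608, 65536],
   [1, 2, 12, 4, 32, 48, 64, 128, 768, 256, 2048, 3072, 4096, 8192, 49152, 16384, 131072, 196608],
   [1, 2, 4, 8, 16, 32, 128, 192, 512, 768, 2048, 3072, 12288, 4096, 49152, 16384, 196608, 65536],
   [1, 2, 8, 12, 48, 16, 128, 192, 768, 256, 1024, 2048, 12288, 4096, 16384, 32768, 131072, 196608],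
   [1, 2, 12, 4, 32, 48, 128, 192, 256, 512, 3072, 1024, 12288, 4096, 32768, 49152, 65536, 131072],
   [1, 2, 4, 8, 16, 32, 192, 64, 768, 256, 3072, 1024, 8192, 12288, 32768, 49152, 131072, 196608],
   [1, 2, 8, 12, 48, 16, 192, 64, 256, 512, 2048, 3072, 8192, 12288, 49152, 16384, 65536, 131072],
   [1, 2, 12, 4, 32, 48, 192, 64, 512, 768, 1024, 2048, 8192, 12288, 16384, 32768, 196608, 65536]]

def lD : List (List ℕ) :=
  [[1, 2, 4, 8, 16, 32, 64, 128, 256, 512, 1024, 2048, 4096, 8192, 16384, 32768, 65536, 131072],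
   [4, 8, 16, 32, 1, 2, 256, 512, 3072, 1024, 64, 128, 16384, 32768, 131072, 196608, 4096, 8192],
   [16, 32, 1, 2, 4, 8, 1024, 2048, 64, 128, 512, 768, 65536, 131072, 4096, 8192, 49152, 16384],
   [64, 128, 256, 512, 1024, 2048, 4096, 8192, 32768, 49152, 196608, 65536, 1, 2, 4, 8, 16, 32],
   [256, 512, 1024, 2048, 128, 192, 16384, 32768, 65536, 131072, 4096, 8192, 12, 4, 16, 32, 1, 2],
   [1024, 2048, 192, 64, 256, 512, 65536, 131072, 4096, 8192, 16384, 32768, 32, 48, 1, 2, 4, 8],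
   [4096, 8192, 16384, 32768, 65536, 131072, 1, 2, 4, 8, 16, 32, 64, 128, 768, 256, 2048, 3072],
   [16384, 32768, 65536, 131072, 12288, 4096, 8, 12, 16, 32, 1, 2, 256, 512, 1024, 2048, 64, 128],
   [65536, 131072, 8192, 12288, 16384, 32768, 48, 16, 1, 2, 4, 8, 1024, 2048, 64, 128, 256, 512]]

def lB : List (List ℕ) :=
  [[1, 2, 4, 8, 16, 32, 64, 128, 256, 512, 1024, 2048, 4096, 8192, 16384, 32768, 65536, 131072],
   [1, 2, 4096, 8192, 64, 128, 4, 8, 16384, 32768, 256, 512, 16, 32, 65536, 131072, 1024, 2048],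
   [1, 2, 64, 128, 4096, 8192, 16, 32, 1024, 2048, 65536, 131072, 4, 8, 256, 512, 16384, 32768],
   [1, 2, 4, 8, 16, 32, 64, 128, 256, 512, 1024, 2048, 4096, 8192, 16384, 32768, 65536, 131072],
   [1, 2, 16384, 32768, 1024, 2048, 256, 512, 16, 32, 4096, 8192, 65536, 131072, 64, 128, 4, 8],
   [1, 2, 256, 512, 65536, 131072, 1024, 2048, 4096, 8192, 4, 8, 16384, 32768, 16, 32, 64, 128],
   [1, 2, 16, 32, 4, 8, 4096, 8192, 65536, 131072, 16384, 32768, 64, 128, 1024, 2048, 256, 512],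
   [1, 2, 65536, 131072, 256, 512, 16384, 32768, 64, 128, 16, 32, 1024, 2048, 4, 8, 4096, 8192],
   [1, 2, 1024, 2048, 16384, 32768, 65536, 131072, 4, 8, 64, 128, 256, 512, 4096, 8192, 16, 32]]

def tE : List ℕ :=
  [1, 2, 8, 12, 32, 48, 128, 192, 768, 256, 3072, 1024, 8192, 12288, 49152, 16384, 196608, 65536]

def tC : List ℕ :=
  [1, 2, 4164, 8328, 4176, 8352, 4116, 8232, 66816, 133632, 17664, 35328, 84, 168, 82944, 165888, 82176, 164352]

def lS : List (List ℕ) :=
  [[1, 2, 4, 8, 16, 32, 64, 128, 256, 512, 1024, 2048, 4096, 8192, 16384, 32768, 65536, 131072],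
   [2, 3, 8, 12, 32, 48, 128, 192, 512, 768, 2048, 3072, 8192, 12288, 32768, 49152, 131072, 196608],
   [3, 1, 12, 4, 48, 16, 192, 64, 768, 256, 3072, 1024, 12288, 4096, 49152, 16384, 196608, 65536]]

/-- table of `j3A Z` -/
def tA (Z : F9) : List ℕ := get [] lA (idx Z)
/-- table of `j3D Z` -/
def tD (Z : F9) : List ℕ := get [] lD (idx Z)
/-- table of `j3B Z` -/
def tB (Z : F9) : List ℕ := get [] lB (idx Z)
/-- table of the scalar `ω ^ s` -/
def tS (s : ℕ) : List ℕ := get [] lS s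

theorem tA_eq : ∀ Z : F9, tA Z = (List.range 18).map fun i => act (opsA Z) (2 ^ i) := by
  decide +kernel
theorem tD_eq : ∀ Z : F9, tD Z = (List.range 18).map fun i => act (opsD Z) (2 ^ i) := by
  decide +kernel
theorem tB_eq : ∀ Z : F9, Z ≠ 0 → tB Z = (List.range 18).map fun i => act (opsB Z) (2 ^ i) := by
  decide +kernel
theorem tE_eq : tE = (List.range 18).map fun i => act (opsE 0) (2 ^ i) := by
  decide +kernel
theorem tC_eq : tC = (List.range 18).map fun i => act (opsC F9.one) (2 ^ i) := by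
  decide +kernel

section
variable {F : Type*} [Field F] {ω : F}

theorem repA (H : Good ω) (Z : F9) : Rep ω (tA Z) (j3A F ω Z) :=
  Rep.of_act (allOps_ok _ (opsA_mem Z)) (by rw [j3A_eq H]; exact matF_mulVec H (chkA Z)) (tA_eq Z)
theorem repD (H : Good ω) (Z : F9) : Rep ω (tD Z) (j3D F ω Z) :=
  Rep.of_act (allOps_ok _ (opsD_mem Z)) (by rw [j3D_eq H]; exact matF_mulVec H (chkD Z)) (tD_eq Z)
theorem repB (H : Good ω) (Z : F9) (hZ : Z ≠ 0) : Rep ω (tB Z) (j3B F Z) :=
  Rep.of_act (allOps_ok _ (opsB_mem Z))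
    (by rw [j3B_eq (ω := ω)]; exact matF_mulVec H (chkB Z hZ)) (tB_eq Z hZ)
theorem repE (H : Good ω) : Rep ω tE (j3E F ω 0) :=
  Rep.of_act (allOps_ok _ (opsE_mem 0)) (by rw [j3E_eq H]; exact matF_mulVec H (chkE 0)) tE_eq
theorem one_ne : (F9.one : F9) ≠ 0 := by decide
theorem repC (H : Good ω) : Rep ω tC (j3C F F9.one) :=
  Rep.of_act (allOps_ok _ (opsC_mem _))
    (by rw [j3C_eq (ω := ω)]; exact matF_mulVec H (chkC _ one_ne)) tC_eq

end

end Cfsg.Agent.J3.Tab
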